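import Mathlib
import Cfsg.Prelude.Def_Transfer
import Cfsg.Agent.Lib.Fusion.Cores
import Cfsg.Agent.Lib.Fusion.ChiefCommutator
import Cfsg.Agent.Lib.Fusion.PGroupAux
import Cfsg.Agent.Lib.LocalEven.PIrred

/-!
Commutators modulo normal subgroups, elements of odd order on 2-groups, and index arithmetic.
-/

set_option autoImplicit false
set_option linter.style.haveILetI false
set_option linter.unusedSectionVars false

open scoped commutatorElement

namespace Cfsg.Agent.Solv.TwoFac

universe u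

variable {G : Type u} [Group G]

/-- The elements commuting with all of `X` modulo `N`. -/
def centMod (N X : Subgroup G) [N.Normal] : Subgroup G :=
  (Subgroup.centralizer (X.map (QuotientGroup.mk' N) : Set (G ⧸ N))).comap (QuotientGroup.mk' N)

theorem mem_centMod {N X : Subgroup G} [N.Normal] {g : G} :
    g ∈ centMod N X ↔ ∀ x ∈ X, ⁅g, x⁆ ∈ N := by
  simp only [centMod, Subgroup.mem_comap, Subgroup.mem_centralizer_iff, SetLike.mem_coe, Subgroup.mem_map]
  constructor
  · intro h x hx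
    rw [← QuotientGroup.eq_one_iff (N := N)]
    show QuotientGroup.mk' N ⁅g, x⁆ = 1
    rw [map_commutatorElement, commutatorElement_eq_one_iff_mul_comm]
    exact (h _ ⟨x, hx, rfl⟩).symm
  · rintro h _ ⟨x, hx, rfl⟩
    refine (commutatorElement_eq_one_iff_mul_comm.1 ?_).symm
    rw [← map_commutatorElement]
    exact (QuotientGroup.eq_one_iff _).2 (h x hx)

theorem le_centMod {N X M : Subgroup G} [N.Normal] : M ≤ centMod N X ↔ ⁅M, X⁆ ≤ N := by
  rw [Subgroup.commutator_le]
  exact ⟨fun h m hm x hx => mem_centMod.1 (h hm) x hx, fun h m hm => mem_centMod.2 (h m hm)⟩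

theorem le_centMod_self (N X : Subgroup G) [N.Normal] : N ≤ centMod N X :=
  le_centMod.2 (Subgroup.commutator_le_left N X)

instance centMod_normal (N X : Subgroup G) [N.Normal] [X.Normal] : (centMod N X).Normal := by
  haveI : (X.map (QuotientGroup.mk' N)).Normal :=
    Subgroup.Normal.map inferInstance _ (QuotientGroup.mk'_surjective N)
  unfold centMod
  infer_instance

theorem comm_comm_le {M X N : Subgroup G} (h : ⁅M, X⁆ ≤ N) : ⁅X, M⁆ ≤ N := by
  rwa [Subgroup.commutator_comm]

/-! ### Elements of odd order -/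

section Finite

variable [Finite G]

theorem odd_mem_residual {g : G} (hg : Odd (orderOf g)) : g ∈ Cfsg.pResidual 2 G :=
  Subgroup.subset_closure (Nat.coprime_two_right.2 hg)

theorem residual_le {H : Subgroup G} (h : ∀ g : G, Odd (orderOf g) → g ∈ H) :
    Cfsg.pResidual 2 G ≤ H :=
  (Subgroup.closure_le _).2 fun g hg => h g (Nat.coprime_two_right.1 hg)

/-- An element of odd order stabilising a coset series inside a 2-group modulo `N`. -/
theorem odd_stab {N : Subgroup G} [N.Normal] {g m : G} (hg : Odd (orderOf g))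
    (h2 : ∃ k, ⁅g, m⁆ ^ 2 ^ k ∈ N) (hc : ⁅g, ⁅g, m⁆⁆ ∈ N) : ⁅g, m⁆ ∈ N := by
  obtain ⟨k, hk⟩ := h2
  rw [← QuotientGroup.eq_one_iff (N := N)] at hc hk ⊢
  change QuotientGroup.mk' N _ = 1 at hc hk ⊢
  rw [map_commutatorElement, map_commutatorElement, commutatorElement_eq_one_iff_mul_comm] at hc
  rw [map_pow, map_commutatorElement] at hk
  rw [map_commutatorElement]
  set a := QuotientGroup.mk' N g
  set b := QuotientGroup.mk' N m
  set d := ⁅a, b⁆ with hd
  have hab : ∀ i : ℕ, a ^ i * b = d ^ i * b * a ^ i := by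
    intro i
    induction i with
    | zero => simp
    | succ i ih =>
      have hcd : Commute a (d ^ i) := (show Commute a d from hc).pow_right i
      calc a ^ (i + 1) * b = a * (a ^ i * b) := by rw [pow_succ', mul_assoc]
        _ = a * (d ^ i * b * a ^ i) := by rw [ih]
        _ = (a * d ^ i) * b * a ^ i := by simp only [mul_assoc]
        _ = d ^ i * (a * b) * a ^ i := by rw [hcd.eq]; simp only [mul_assoc]
        _ = d ^ i * (d * b * a) * a ^ i := by
          rw [show a * b = d * b * a by rw [hd, commutatorElement_def]; group]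
        _ = _ := by rw [pow_succ, pow_succ' a]; simp only [mul_assoc]
  have ha : a ^ orderOf g = 1 := by rw [← map_pow, pow_orderOf_eq_one, map_one]
  have h1 := hab (orderOf g)
  rw [ha, one_mul, mul_one] at h1
  have h3 : d ^ orderOf g = 1 := mul_eq_right.1 h1.symm
  exact orderOf_eq_one_iff.1 (Nat.eq_one_of_dvd_coprimes ((Nat.coprime_two_left.2 hg).pow_left k)
    (orderOf_dvd_of_pow_eq_one hk) (orderOf_dvd_of_pow_eq_one h3))

/-- `[M, O, O] ≤ N` implies `[M, O] ≤ N` for a normal 2-subgroup `M`. -/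
theorem stab {M N : Subgroup G} [M.Normal] [N.Normal] (hM : IsPGroup 2 M)
    (h : ⁅⁅M, Cfsg.pResidual 2 G⁆, Cfsg.pResidual 2 G⁆ ≤ N) : ⁅M, Cfsg.pResidual 2 G⁆ ≤ N := by
  refine comm_comm_le (le_centMod.1 (residual_le fun g hg => mem_centMod.2 fun m hm => ?_))
  have hdM : ⁅g, m⁆ ∈ ⁅Cfsg.pResidual 2 G, M⁆ :=
    Subgroup.commutator_mem_commutator (odd_mem_residual hg) hm
  obtain ⟨k, hk⟩ := hM ⟨⁅g, m⁆, Subgroup.commutator_le_right _ M hdM⟩
  refine odd_stab hg ⟨k, by rw [show ⁅g, m⁆ ^ 2 ^ k = 1 from congrArg Subtype.val hk]; exact N.one_mem⟩ ?_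
  refine comm_comm_le h (Subgroup.commutator_mem_commutator (odd_mem_residual hg) ?_)
  rwa [Subgroup.commutator_comm] at hdM

/-- `[M, O, O] = [M, O]`. -/
theorem idem {M : Subgroup G} [M.Normal] (hM : IsPGroup 2 M) :
    ⁅⁅M, Cfsg.pResidual 2 G⁆, Cfsg.pResidual 2 G⁆ = ⁅M, Cfsg.pResidual 2 G⁆ :=
  le_antisymm (Subgroup.commutator_le_left _ _) (stab hM le_rfl)

variable [Fact (Nat.Prime 2)]

theorem residual_le_of_sup' {C S : Subgroup G} [C.Normal] (hS : IsPGroup 2 S) (h : C ⊔ S = ⊤) :
    Cfsg.pResidual 2 G ≤ C := LocalEven.PIrr.residual_le_of_sup hS h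

/-- A 2-subgroup has fixed points on a non-trivial 2-section. -/
theorem exists_fixed_mod {N M S : Subgroup G} [N.Normal] [M.Normal] (hS : IsPGroup 2 S) (hNM : N < M)
    (hMS : M ≤ S) : ∃ x ∈ M, x ∉ N ∧ x ∈ centMod N S := by
  set π := QuotientGroup.mk' N
  haveI : (M.map π).Normal := Subgroup.Normal.map inferInstance _ (QuotientGroup.mk'_surjective N)
  obtain ⟨m₀, hm₀, hm₀N⟩ := Set.exists_of_ssubset hNM
  have hne : (M.map π).subgroupOf (S.map π) ≠ ⊥ := fun h => by
    have h1 : (⟨π m₀, Subgroup.mem_map_of_mem π (hMS hm₀)⟩ : ↥(S.map π)) ∈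
        (M.map π).subgroupOf (S.map π) := ⟨m₀, hm₀, rfl⟩
    rw [h, Subgroup.mem_bot] at h1
    exact hm₀N ((QuotientGroup.eq_one_iff _).1 (congrArg Subtype.val h1))
  obtain ⟨⟨_, hs⟩, ⟨x, hx, hxe⟩, hne1, hcen⟩ :=
    Fusion.exists_central_of_normal (hS.map π) ((M.map π).subgroupOf (S.map π)) hne
  refine ⟨x, hx, fun hxN => hne1 (Subtype.ext ?_), Subgroup.mem_comap.2 ?_⟩
  · exact hxe.symm.trans ((QuotientGroup.eq_one_iff _).2 hxN)
  · refine Subgroup.mem_centralizer_iff.2 fun y hy => ?_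
    show y * π x = π x * y
    rw [hxe]
    exact congrArg Subtype.val (Subgroup.mem_center_iff.1 hcen ⟨y, hy⟩)

/-! ### Indices -/

omit [Fact (Nat.Prime 2)] in
theorem relIndex_pos (H K : Subgroup G) : 0 < H.relIndex K :=
  Nat.pos_of_ne_zero Subgroup.index_ne_zero_of_finite

omit [Fact (Nat.Prime 2)] in
theorem relIndex_mul_card {H K : Subgroup G} : H.relIndex K * Nat.card ↥(K ⊓ H) = Nat.card K := by
  rw [inf_comm, ← Subgroup.inf_relIndex_right, mul_comm,
    ← Nat.card_congr (Subgroup.subgroupOfEquivOfLe (inf_le_right : H ⊓ K ≤ K)).toEquiv]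
  exact Subgroup.card_mul_index _

omit [Fact (Nat.Prime 2)] in
/-- A larger ambient group gives a larger index. -/
theorem relIndex_le_right {H K L : Subgroup G} (h : K ≤ L) : H.relIndex K ≤ H.relIndex L :=
  Subgroup.relIndex_le_of_le_right h Subgroup.index_ne_zero_of_finite

omit [Fact (Nat.Prime 2)] in
theorem relIndex_le_left {H K L : Subgroup G} (h : H ≤ K) : K.relIndex L ≤ H.relIndex L :=
  Subgroup.relIndex_le_of_le_left h Subgroup.index_ne_zero_of_finite

omit [Fact (Nat.Prime 2)] in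
/-- The index of a subgroup, split along a normal subgroup. -/
theorem relIndex_split {C W U : Subgroup G} [W.Normal] (hC : C ≤ U) (hW : W ≤ U) :
    C.relIndex U = (W ⊔ C).relIndex U * C.relIndex W := by
  rw [← Subgroup.relIndex_mul_relIndex C (W ⊔ C) U le_sup_right (sup_le hW hC), mul_comm]
  congr 1
  have h1 := relIndex_mul_card (H := C) (K := W ⊔ C)
  have h2 := relIndex_mul_card (H := C) (K := W)
  have h3 := Solv.card_sup_mul_card_inf' W C (by rw [Subgroup.normalizer_eq_top]; exact le_top)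
  rw [inf_eq_right.2 (le_sup_right : C ≤ W ⊔ C)] at h1
  refine Nat.eq_of_mul_eq_mul_right (Nat.card_pos (α := C)) (Nat.eq_of_mul_eq_mul_right
    (Nat.card_pos (α := ↥(W ⊓ C))) ?_)
  rw [h1, h3, mul_right_comm, h2]

end Finite

end Cfsg.Agent.Solv.TwoFac
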