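import Cfsg.Agent.Lib.Solv.TwoFactor.EGroup
import Cfsg.Agent.S2752

/-!
The 2-factorisation theorem for groups free of `S₄`.
-/

set_option autoImplicit false
set_option linter.style.haveILetI false
set_option linter.unusedSectionVars false

open scoped commutatorElement
open Cfsg.Agent.Fusion (cj)

namespace Cfsg.Agent.Solv.TwoFac

universe u

variable {G : Type u} [Group G] [Finite G]

/-- `S₄` is not involved in subgroups. -/
theorem free_sub (hS4 : ¬ Cfsg.Involves (Equiv.Perm (Fin 4)) G) (H : Subgroup G) :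
    ¬ Cfsg.Involves (Equiv.Perm (Fin 4)) ↥H := fun hinv => by
  obtain ⟨K, f, hf⟩ := Fusion.involves_exists_surjective hinv
  exact hS4 (Fusion.involves_of_surjective
    (f.comp (K.equivMapOfInjective H.subtype H.subtype_injective).symm.toMonoidHom)
    (hf.comp (K.equivMapOfInjective H.subtype H.subtype_injective).symm.surjective))

/-- The acting group on an elementary abelian normal subgroup is free of `S₃`. -/
theorem sthree_free_conj (hS4 : ¬ Cfsg.Involves (Equiv.Perm (Fin 4)) G) (M : Subgroup G) [M.Normal]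
    (hMe : Cfsg.IsElementaryAbelian 2 M) :
    ¬ Cfsg.Involves (Equiv.Perm (Fin 3)) ↥(MulAut.conjNormal (H := M)).range := by
  intro hinv
  obtain ⟨b, y, ⟨k, hk⟩, hy1, hy3, hby⟩ := LocalEven.SFour.exists_inverted_three hinv
  set f := (MulAut.conjNormal (H := M)).rangeRestrict
  have hf : Function.Surjective f := (MulAut.conjNormal (H := M)).rangeRestrict_surjective
  let e := QuotientGroup.quotientKerEquivOfSurjective f hf
  obtain ⟨r, hr, hrodd⟩ := Solv.SFour.exists_odd_lift' f.ker (e.symm y) (by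
    rw [MulEquiv.orderOf_eq]
    exact Odd.of_dvd_nat (by decide : Odd 3) (orderOf_dvd_of_pow_eq_one hy3))
  have hry : f r = y := by
    have h1 := congrArg e hr
    rwa [MulEquiv.apply_symm_apply] at h1
  obtain ⟨b', rfl⟩ := hf b
  subst hry
  have hact : ∀ g : G, f g = 1 → ∀ v ∈ M, g * v * g⁻¹ = v := fun g hg v hv => by
    have h0 : MulAut.conjNormal (H := M) g = 1 := congrArg Subtype.val hg
    have h1 := congrArg Subtype.val (DFunLike.congr_fun h0 ⟨v, hv⟩)
    simpa using h1
  refine hS4 (LocalEven.SFour.involves_of_action M (fun v hv w hw => OffGain.comm_mem hMe hv hw)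
    (fun v hv => OffGain.inv_self hMe hv) b' r hrodd ?_ (fun v hv => ?_) ⟨k, fun v hv => ?_⟩ fun v hv => ?_)
  · by_contra hno
    push Not at hno
    refine hy1 (Subtype.ext (MulEquiv.ext fun v => Subtype.ext ?_))
    show ((MulAut.conjNormal (H := M) r v : M) : G) = v
    rw [MulAut.conjNormal_apply]
    exact hno v v.2
  · exact hact _ (by rw [map_pow, hy3]) v hv
  · exact hact _ (by rw [map_pow, hk]) v hv
  · exact hact _ (by rw [map_mul, map_mul, map_mul, map_inv, hby, inv_mul_cancel]) v hv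

/-- Both bounds on a normal elementary abelian subgroup with reduced action. -/
theorem gains (hS4 : ¬ Cfsg.Involves (Equiv.Perm (Fin 4)) G) (hK : KG G) (M : Subgroup G) [M.Normal]
    (hMe : Cfsg.IsElementaryAbelian 2 M)
    (hred : Cfsg.pCore 2 ↥(MulAut.conjNormal (H := M)).range = ⊥) {R : Subgroup G}
    (h1 : ⁅R, R⁆ ≤ Subgroup.centralizer (M : Set G))
    (h2 : ∀ x ∈ R, x * x ∈ Subgroup.centralizer (M : Set G)) :
    (Subgroup.centralizer (M : Set G)).relIndex R ^ 2 ≤ (Subgroup.centralizer (R : Set G)).relIndex M ∧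
      (Subgroup.centralizer (M : Set G)).relIndex R ^ 2 ≤ Nat.card ↥⁅M, R⁆ := by
  haveI := hMe.1
  letI : CommGroup M := { (inferInstance : Group M) with mul_comm := fun x y => hMe.1.is_comm.comm x y }
  set c := MulAut.conjNormal (H := M)
  set f := c.rangeRestrict
  let φ : ↥c.range →* MulAut M := c.range.subtype
  have hV : ∀ v : M, v * v = 1 := fun v => Subtype.ext (OffGain.inv_self hMe v.2)
  have hker : f.ker = Subgroup.centralizer (M : Set G) := by
    ext g
    rw [MonoidHom.ker_rangeRestrict, MonoidHom.mem_ker, Subgroup.mem_centralizer_iff]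
    constructor
    · intro h v hv
      have h1 := congrArg Subtype.val (DFunLike.congr_fun h ⟨v, hv⟩)
      rw [MulAut.conjNormal_apply] at h1
      calc v * g = g * v * g⁻¹ * g := by rw [h1]; rfl
        _ = g * v := by group
    · intro h
      refine MulEquiv.ext fun v => Subtype.ext ?_
      rw [MulAut.conjNormal_apply, ← h v v.2, mul_inv_cancel_right]
      rfl
  have hone : ∀ g ∈ Subgroup.centralizer (M : Set G), f g = 1 := fun g hg => MonoidHom.mem_ker.1 (hker.ge hg)
  have hA : Cfsg.IsElementaryAbelian 2 (R.map f) := by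
    refine ⟨⟨⟨?_⟩⟩, ?_⟩
    · rintro ⟨_, a, ha, rfl⟩ ⟨_, b, hb, rfl⟩
      refine Subtype.ext (commutatorElement_eq_one_iff_mul_comm.1 ?_)
      rw [← map_commutatorElement]
      exact hone _ (h1 (Subgroup.commutator_mem_commutator ha hb))
    · rintro _ ⟨a, ha, rfl⟩
      rw [← map_pow, pow_two]
      exact hone _ (h2 a ha)
  have hcA : (Subgroup.centralizer (M : Set G)).relIndex R = Nat.card (R.map f) := by
    rw [← hker, Subgroup.relIndex_ker]
  have hφv : ∀ (g : G) (v : M), ((φ (f g) v : M) : G) = g * v * g⁻¹ := fun g v => MulAut.conjNormal_apply g v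
  have hsub := sthree_free_conj hS4 M hMe
  have hkg := kg_of_surjective f c.rangeRestrict_surjective hK
  constructor
  · have hb := OffGain.bound φ hV c.range.subtype_injective hsub hred hkg _ hA
    have e : Nat.card ↥(M ⊓ Subgroup.centralizer (R : Set G)) ≤
        Nat.card ↥(OffGain.fixV φ ((R.map f : Subgroup ↥c.range) : Set ↥c.range)) := by
      refine Nat.card_le_card_of_injective (fun v => ⟨⟨v.1, v.2.1⟩, ?_⟩) fun v w hvw =>
        Subtype.ext (congrArg (fun z => ((z.1 : M) : G)) hvw)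
      rintro _ ⟨a, ha, rfl⟩
      refine Subtype.ext ?_
      rw [hφv]
      show a * v.1 * a⁻¹ = v.1
      rw [Subgroup.mem_centralizer_iff.1 v.2.2 a ha, mul_inv_cancel_right]
    rw [hcA]
    refine Nat.le_of_mul_le_mul_right ?_ (Nat.card_pos (α := ↥(M ⊓ Subgroup.centralizer (R : Set G))))
    rw [relIndex_mul_card]
    exact le_trans (Nat.mul_le_mul_left _ e) hb
  · rw [hcA]
    refine (S2752.displacement hV φ c.range.subtype_injective hsub hred hkg hA).trans ?_
    rw [← Subgroup.card_map_of_injective (f := M.subtype) M.subtype_injective]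
    refine Subgroup.card_le_of_le ?_
    rw [MonoidHom.map_closure, Subgroup.closure_le]
    rintro _ ⟨w, ⟨_, ⟨a, ha, rfl⟩, v, rfl⟩, rfl⟩
    show ((v : G))⁻¹ * ((φ (f a) v : M) : G) ∈ ⁅M, R⁆
    rw [hφv, show (v : G)⁻¹ * (a * v * a⁻¹) = ⁅(v : G)⁻¹, a⁆ by simp [commutatorElement_def, mul_assoc]]
    exact Subgroup.commutator_mem_commutator (inv_mem v.2) ha

variable [Fact (Nat.Prime 2)]

/-- The first two factorisations. -/
theorem part12 (hQ : Subgroup.centralizer (Cfsg.pCore 2 G : Set G) ≤ Cfsg.pCore 2 G)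
    (hS4 : ¬ Cfsg.Involves (Equiv.Perm (Fin 4)) G) (hK : KG G) (S : Sylow 2 G) (g : G) :
    ∃ c ∈ Subgroup.centralizer (((S : Subgroup G) ⊓ Subgroup.centralizer ((S : Subgroup G) : Set G) :
        Subgroup G) : Set G),
      ∃ n, n ∈ Subgroup.normalizer (Cfsg.thompsonSubgroupOf 2 (S : Subgroup G) : Set G) ∧
        n ∈ Subgroup.normalizer (jh (S : Subgroup G) : Set G) ∧ g = c * n := by
  set Z := (S : Subgroup G) ⊓ Subgroup.centralizer ((S : Subgroup G) : Set G)
  set Q := Cfsg.pCore 2 G with hQdef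
  set J := Cfsg.thompsonSubgroupOf 2 (S : Subgroup G) with hJ
  set W := Subgroup.normalClosure (Z : Set G)
  haveI hWn : W.Normal := Subgroup.normalClosure_normal
  have hQS : Q ≤ (S : Subgroup G) := Fusion.pCore_le_sylow S
  have hWgen : ∀ X : Subgroup G, X.Normal → Z ≤ X → W ≤ X := fun X hX h => Subgroup.normalClosure_le_normal h
  have hWQ : W ≤ Q := hWgen Q inferInstance
    ((inf_le_right.trans (Subgroup.centralizer_le hQS)).trans hQ)
  have hWC : W ≤ Subgroup.centralizer (Q : Set G) := by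
    haveI : (Subgroup.centralizer (Q : Set G)).Normal := inferInstance
    exact hWgen _ inferInstance (inf_le_right.trans (Subgroup.centralizer_le hQS))
  have hWab : ∀ a ∈ W, ∀ b ∈ W, a * b = b * a := fun a ha b hb =>
    (Subgroup.mem_centralizer_iff.1 (hWC ha) b (hWQ hb)).symm
  set CW := Subgroup.centralizer (W : Set G)
  haveI : CW.Normal := inferInstance
  have hZW : Z ≤ W := Subgroup.le_normalClosure
  -- reduction of the action
  have hred : ∀ K : Subgroup G, K.Normal → (∀ x ∈ K, Odd (orderOf x) → x ∈ CW) → K ≤ CW := by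
    intro K hKn hodd
    set C' := CW ⊓ K
    haveI : C'.Normal := inferInstance
    haveI : (C'.subgroupOf K).Normal := inferInstance
    set H := C' ⊔ (S : Subgroup G) ⊓ K
    have hsyl := (Fusion.sylIn_top S).inf_normal (le_top : K ≤ ⊤) (by rw [Subgroup.normalizer_eq_top])
    have hHK : H ≤ K := sup_le inf_le_right inf_le_right
    have hp : IsPGroup 2 (K ⧸ C'.subgroupOf K) := by
      intro x
      obtain ⟨x, rfl⟩ := QuotientGroup.mk_surjective x
      obtain ⟨k, o, -, -, hodd'⟩ := JComp.exists_parts (x : G)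
      refine ⟨k, ?_⟩
      rw [← QuotientGroup.mk_pow, QuotientGroup.eq_one_iff]
      exact ⟨hodd _ (pow_mem x.2 _) hodd', pow_mem x.2 _⟩
    obtain ⟨k, hk⟩ := IsPGroup.iff_card.1 hp
    have h1 : H.relIndex K ∣ 2 ^ k := by
      rw [← hk, ← Subgroup.index_eq_card]
      exact Subgroup.relIndex_dvd_of_le_left K le_sup_left
    obtain ⟨j, -, hj⟩ := (Nat.dvd_prime_pow Nat.prime_two).1 h1
    have h2 : ¬ 2 ∣ H.relIndex K := fun hd => hsyl.not_dvd
      (hd.trans (Subgroup.relIndex_dvd_of_le_left K le_sup_right))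
    rcases j with _ | j
    swap
    · exact absurd (hj ▸ dvd_pow_self 2 (Nat.succ_ne_zero j)) h2
    have hKZ : K ≤ Subgroup.centralizer (Z : Set G) := by
      refine (Subgroup.relIndex_eq_one.1 (hj.trans (pow_zero 2))).trans (sup_le ?_ ?_)
      · exact inf_le_left.trans (Subgroup.centralizer_le hZW)
      · exact inf_le_left.trans (Subgroup.le_centralizer_iff.1 inf_le_right)
    haveI := hKn
    exact Subgroup.le_centralizer_iff.1 (hWgen _ inferInstance (Subgroup.le_centralizer_iff.1 hKZ))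
  -- the elements of order two
  let M : Subgroup G :=
    { carrier := {a | a ∈ W ∧ a ^ 2 = 1}
      one_mem' := ⟨W.one_mem, one_pow 2⟩
      mul_mem' := fun {a b} ha hb => ⟨W.mul_mem ha.1 hb.1, by
        rw [(show Commute a b from hWab a ha.1 b hb.1).mul_pow, ha.2, hb.2, one_mul]⟩
      inv_mem' := fun {a} ha => ⟨W.inv_mem ha.1, by rw [inv_pow, ha.2, inv_one]⟩ }
  haveI hMn : M.Normal := ⟨fun a ha x => ⟨hWn.conj_mem a ha.1 x, by rw [conj_pow, ha.2]; group⟩⟩
  have hMe : Cfsg.IsElementaryAbelian 2 M :=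
    ⟨⟨⟨fun a b => Subtype.ext (hWab a a.2.1 b b.2.1)⟩⟩, fun a ha => ha.2⟩
  have hoddM : ∀ x : G, Odd (orderOf x) → x ∈ Subgroup.centralizer (M : Set G) → x ∈ CW := by
    intro x hx hxM
    suffices h : ∀ k : ℕ, ∀ w ∈ W, w ^ 2 ^ k = 1 → ⁅x, w⁆ = 1 by
      refine Subgroup.mem_centralizer_iff.2 fun w hw => ?_
      obtain ⟨k, hk⟩ := (Fusion.isPGroup_pCore 2 G) ⟨w, hWQ hw⟩
      exact (commutatorElement_eq_one_iff_mul_comm.1 (h k w hw (congrArg Subtype.val hk))).symm
    intro k
    induction k with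
    | zero => intro w _ hw; rw [pow_zero, pow_one] at hw; rw [hw, commutatorElement_one_right]
    | succ k ih =>
      intro w hw hk
      have hxw : x * w * x⁻¹ ∈ W := hWn.conj_mem w hw x
      have hd : ⁅x, w⁆ ∈ W := by rw [commutatorElement_def]; exact mul_mem hxw (inv_mem hw)
      have hk' : (w ^ 2 ^ k) ^ 2 = 1 := by rw [← pow_mul, ← pow_succ]; exact hk
      have h1 : ⁅x, w⁆ ^ 2 ^ k = 1 := by
        rw [commutatorElement_def,
          (show Commute (x * w * x⁻¹) w⁻¹ from hWab _ hxw _ (inv_mem hw)).mul_pow, conj_pow, inv_pow,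
          ← Subgroup.mem_centralizer_iff.1 hxM (w ^ 2 ^ k) ⟨pow_mem hw _, hk'⟩, mul_inv_cancel_right,
          mul_inv_cancel]
      refine Subgroup.mem_bot.1 (odd_stab hx ⟨k, Subgroup.mem_bot.2 h1⟩ (Subgroup.mem_bot.2 ?_))
      exact ih _ hd h1
  have hCM : Subgroup.centralizer (M : Set G) ≤ CW := hred _ inferInstance fun x hx ho => hoddM x ho hx
  have hcore : Cfsg.pCore 2 ↥(MulAut.conjNormal (H := M)).range = ⊥ := by
    set c := MulAut.conjNormal (H := M)
    set P := Cfsg.pCore 2 ↥c.range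
    haveI : P.Normal := inferInstance
    set K := P.comap c.rangeRestrict
    haveI : K.Normal := Subgroup.Normal.comap inferInstance _
    have hKC : K ≤ CW := hred K inferInstance fun x hx ho => hoddM x ho <| by
      obtain ⟨k, hk⟩ := (Fusion.isPGroup_pCore 2 ↥c.range) ⟨c.rangeRestrict x, hx⟩
      have h1 : c.rangeRestrict x = 1 :=
        JComp.eq_one_of_odd (congrArg Subtype.val hk) (Odd.of_dvd_nat ho (orderOf_map_dvd _ x))
      refine Subgroup.mem_centralizer_iff.2 fun v hv => ?_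
      have h2 := congrArg Subtype.val (DFunLike.congr_fun (congrArg Subtype.val h1) ⟨v, hv⟩)
      change ((c x ⟨v, hv⟩ : M) : G) = v at h2
      rw [MulAut.conjNormal_apply] at h2
      calc v * x = x * v * x⁻¹ * x := by rw [h2]
        _ = x * v := by group
    refine (Subgroup.eq_bot_iff_forall _).2 fun y hy => ?_
    obtain ⟨x, rfl⟩ := c.rangeRestrict_surjective y
    refine Subtype.ext (MulEquiv.ext fun v => Subtype.ext ?_)
    show ((c x v : M) : G) = v
    rw [MulAut.conjNormal_apply, ← Subgroup.mem_centralizer_iff.1 (hKC hy) v v.2.1, mul_inv_cancel_right]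
  have hMS : M ≤ (S : Subgroup G) := fun a ha => hQS (hWQ ha.1)
  have hA : ∀ A ∈ JComp.mx (S : Subgroup G), A ≤ Subgroup.centralizer (M : Set G) := by
    intro A hA
    haveI := hA.2.1.1
    have h1 := (gains hS4 hK M hMe hcore (R := A) (Subgroup.commutator_le.2 fun a ha b hb => by
      rw [commutatorElement_eq_one_iff_mul_comm.2 (OffGain.comm_mem hA.2.1 ha hb)]
      exact one_mem _) (fun x hx => by rw [OffGain.inv_self hA.2.1 hx]; exact one_mem _)).1
    have h2 := card_gain hA hMS hMe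
    refine Subgroup.relIndex_eq_one.1 ?_
    have h3 := relIndex_pos (Subgroup.centralizer (M : Set G)) A
    nlinarith
  have hMJ : M ≤ J := by
    obtain ⟨A, hA'⟩ := JComp.mx_nonempty (S : Subgroup G)
    have h1 : A = A ⊔ M := Subgroup.eq_of_le_of_card_ge le_sup_left
      (hA'.2.2 _ (sup_le hA'.1 hMS) (elem_sup hA'.2.1 hMe (hA A hA')))
    exact (le_sup_right.trans h1.ge).trans (JComp.mx_le_J hA')
  have hJC : J ≤ CW := ((J_def _).trans_le (sSup_le hA)).trans hCM
  have hUC : ∀ U ≤ (S : Subgroup G), EG U → J ≤ U → U ≤ CW := by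
    intro U hU hUE hJU
    refine le_trans (hUE M (hMJ.trans hJU) hMe (Subgroup.normalizer_eq_top (H := M) ▸ le_top) ?_) hCM
    have key : ∀ R : Subgroup G, ¬ R ≤ Subgroup.centralizer (M : Set G) →
        2 ≤ (Subgroup.centralizer (M : Set G)).relIndex R := fun R h => by
      have h1 := relIndex_pos (Subgroup.centralizer (M : Set G)) R
      have h2 : (Subgroup.centralizer (M : Set G)).relIndex R ≠ 1 := fun e =>
        h (Subgroup.relIndex_eq_one.1 e)
      omega
    refine ⟨fun R _ h1 h2 h3 => ?_, fun R _ h1 h2 h3 => ?_⟩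
    · have h4 := key R h3
      have h5 := Nat.pow_le_pow_left (gains hS4 hK M hMe hcore h1 h2).1 2
      refine lt_of_lt_of_le ?_ h5
      rw [← pow_mul]
      exact Nat.pow_lt_pow_right (by omega) (by norm_num)
    · have h4 := key R h3
      refine lt_of_lt_of_le ?_ (gains hS4 hK M hMe hcore h1 h2).2
      nlinarith
  -- Frattini
  obtain ⟨T, hT⟩ := ((Fusion.sylIn_top S).inf_normal (le_top : CW ≤ ⊤)
    (by rw [Subgroup.normalizer_eq_top])).exists_sylow_subgroupOf
  have hfr := Sylow.normalizer_sup_eq_top T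
  rw [hT, Subgroup.map_subgroupOf_eq_of_le inf_le_right, sup_comm] at hfr
  obtain ⟨c, hc, m, hm, rfl⟩ := Subgroup.mem_sup_of_normal_left.1 (hfr ▸ Subgroup.mem_top g)
  have hJT : Cfsg.thompsonSubgroupOf 2 ((S : Subgroup G) ⊓ CW) = J :=
    JComp.J_eq_of_sylIn (Fusion.sylIn_top S) (S.isPGroup'.to_le inf_le_left) le_top
      (le_inf (JComp.J_le _) hJC)
  have hJm : cj J m = J := by rw [← hJT, JComp.thompson_cj, Fusion.cj_eq_self hm]
  refine ⟨c, Subgroup.centralizer_le hZW hc, m, Fusion.mem_normalizer_iff_cj.2 hJm,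
    Fusion.mem_normalizer_iff_cj.2 ?_, rfl⟩
  refine Subgroup.eq_of_le_of_card_ge ?_ (Fusion.card_cj _ _).ge
  rw [Fusion.cj_le_iff]
  refine sSup_le fun U hU => ?_
  rw [← Fusion.cj_le_iff]
  refine le_sSup ⟨?_, eg_cj hU.2.1 m, ?_⟩
  · refine (Fusion.cj_mono (le_inf hU.1 (hUC U hU.1 hU.2.1 hU.2.2)) m).trans ?_
    rw [Fusion.cj_eq_self hm]
    exact inf_le_left
  · rw [← hJ, ← hJm]
    exact Fusion.cj_mono hU.2.2 m

/-- The third factorisation. -/
theorem part3 : ∀ (n : ℕ) {G : Type u} [Group G] [Finite G], Nat.card G = n →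
    Subgroup.centralizer (Cfsg.pCore 2 G : Set G) ≤ Cfsg.pCore 2 G →
    ¬ Cfsg.Involves (Equiv.Perm (Fin 4)) G → KG G → ∀ (S : Sylow 2 G) (g : G),
    ∃ c ∈ Subgroup.centralizer (Cfsg.omegaOne 2 (jh (S : Subgroup G) ⊓
        Subgroup.centralizer (jh (S : Subgroup G) : Set G)) : Set G),
      ∃ n ∈ Subgroup.normalizer (Cfsg.thompsonSubgroupOf 2 (S : Subgroup G) : Set G), g = c * n := by
  intro n
  induction n using Nat.strong_induction_on with
  | _ n ih =>
  intro G _ _ hn hQ hS4 hK S g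
  haveI : Fact (Nat.Prime 2) := ⟨Nat.prime_two⟩
  by_cases hSE : EG (S : Subgroup G)
  · have hjh : jh (S : Subgroup G) = S := le_antisymm (jh_le _) (le_sSup ⟨le_rfl, hSE, JComp.J_le _⟩)
    obtain ⟨c, hc, m, hm, -, rfl⟩ := part12 hQ hS4 hK S g
    refine ⟨c, Subgroup.centralizer_le ?_ hc, m, hm, rfl⟩
    rw [hjh]
    exact (Subgroup.closure_le _).2 fun x hx => hx.1
  obtain ⟨V, hVS, hVe, hVn, hE, hVc⟩ : ∃ V : Subgroup G, V ≤ (S : Subgroup G) ∧
      Cfsg.IsElementaryAbelian 2 V ∧ (S : Subgroup G) ≤ Subgroup.normalizer (V : Set G) ∧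
      EFull (S : Subgroup G) V ∧ ¬ (S : Subgroup G) ≤ Subgroup.centralizer (V : Set G) := by
    unfold EG at hSE
    push Not at hSE
    exact hSE
  set J := Cfsg.thompsonSubgroupOf 2 (S : Subgroup G) with hJ
  set L := Subgroup.normalClosure (J : Set G)
  haveI hLn : L.Normal := Subgroup.normalClosure_normal
  have hJL : J ≤ L := Subgroup.le_normalClosure
  have hLC : L ≤ Subgroup.centralizer (V : Set G) := (Subgroup.closure_le _).2 fun z hz => by
    obtain ⟨j, hj, hjz⟩ := Group.mem_conjugatesOfSet_iff.1 hz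
    obtain ⟨x, rfl⟩ := isConj_iff.1 hjz
    exact claim _ rfl hQ hS4 hK S V hVS hVe hVn hE.1 x (Fusion.conj_mem_cj hj)
  have hLtop : L ≠ ⊤ := fun e => hVc (le_trans le_top (e ▸ hLC))
  have hlt : Nat.card L < n := hn ▸ lt_of_le_of_ne (Subgroup.card_le_card_group L) fun e =>
    hLtop (Subgroup.eq_top_of_card_eq L e)
  set Q := Cfsg.pCore 2 G
  haveI : Q.Normal := inferInstance
  have hQL : (Q ⊓ L).subgroupOf L ≤ Cfsg.pCore 2 ↥L := by
    haveI : ((Q ⊓ L).subgroupOf L).Normal := inferInstance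
    exact Fusion.le_pCore (((Fusion.isPGroup_pCore 2 G).to_le inf_le_left).comap_subtype)
  have hQ' : Subgroup.centralizer (Cfsg.pCore 2 ↥L : Set ↥L) ≤ Cfsg.pCore 2 ↥L := by
    set E := L ⊓ Subgroup.centralizer ((Q ⊓ L : Subgroup G) : Set G)
    haveI : E.Normal := inferInstance
    have hE2 : IsPGroup 2 E := fun e => by
      obtain ⟨k, o, -, -, hodd⟩ := JComp.exists_parts (e : G)
      refine ⟨k, Subtype.ext ?_⟩
      show (e : G) ^ 2 ^ k = 1
      set x := (e : G) ^ 2 ^ k
      have hxE : x ∈ E := pow_mem e.2 _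
      have hxQ : x ∈ Q := hQ <| Subgroup.mem_centralizer_iff.2 fun q hq => by
        have hd : ⁅x, q⁆ ∈ Q ⊓ L := by
          rw [commutatorElement_def]
          refine ⟨Q.mul_mem ((inferInstance : Q.Normal).conj_mem q hq x) (Q.inv_mem hq), ?_⟩
          rw [show x * q * x⁻¹ * q⁻¹ = x * (q * x⁻¹ * q⁻¹) by group]
          exact L.mul_mem hxE.1 (hLn.conj_mem _ (L.inv_mem hxE.1) q)
        obtain ⟨j, hj⟩ := (Fusion.isPGroup_pCore 2 G) ⟨_, hd.1⟩
        refine (commutatorElement_eq_one_iff_mul_comm.1 (Subgroup.mem_bot.1 (odd_stab hodd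
          ⟨j, Subgroup.mem_bot.2 (congrArg Subtype.val hj)⟩ (Subgroup.mem_bot.2 ?_)))).symm
        exact commutatorElement_eq_one_iff_mul_comm.2 (Subgroup.mem_centralizer_iff.1 hxE.2 _ hd).symm
      obtain ⟨j, hj⟩ := (Fusion.isPGroup_pCore 2 G) ⟨x, hxQ⟩
      exact JComp.eq_one_of_odd (congrArg Subtype.val hj) hodd
    intro x hx
    refine hQL ⟨Fusion.le_pCore hE2 ⟨x.2, Subgroup.mem_centralizer_iff.2 fun q hq => ?_⟩, x.2⟩
    exact congrArg Subtype.val (Subgroup.mem_centralizer_iff.1 hx ⟨q, hq.2⟩ (hQL hq))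
  obtain ⟨TL, hTL⟩ := ((Fusion.sylIn_top S).inf_normal (le_top : L ≤ ⊤)
    (by rw [Subgroup.normalizer_eq_top])).exists_sylow_subgroupOf
  have hmap : (TL : Subgroup ↥L).map L.subtype = (S : Subgroup G) ⊓ L := by
    rw [hTL, Subgroup.map_subgroupOf_eq_of_le inf_le_right]
  have hfr := Sylow.normalizer_sup_eq_top TL
  rw [hmap, sup_comm] at hfr
  obtain ⟨l, hl, m, hm, rfl⟩ := Subgroup.mem_sup_of_normal_left.1 (hfr ▸ Subgroup.mem_top g)
  have hJT : Cfsg.thompsonSubgroupOf 2 ((S : Subgroup G) ⊓ L) = J :=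
    JComp.J_eq_of_sylIn (Fusion.sylIn_top S) (S.isPGroup'.to_le inf_le_left) le_top
      (le_inf (JComp.J_le _) hJL)
  obtain ⟨c, hc, m', hm', hlcm⟩ :=
    ih _ hlt rfl hQ' (free_sub hS4 L) (kg_subnormal hLn.isSubnormal hK) TL ⟨l, hl⟩
  have hmJ : m ∈ Subgroup.normalizer (J : Set G) :=
    Fusion.mem_normalizer_iff_cj.2 (by rw [← hJT, JComp.thompson_cj, Fusion.cj_eq_self hm])
  have hm'J : (m' : G) ∈ Subgroup.normalizer (J : Set G) := by
    have h1 := Subgroup.le_normalizer_map L.subtype ⟨m', hm', rfl⟩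
    rw [jElem_map L.subtype L.subtype_injective, hmap, hJT] at h1
    exact h1
  refine ⟨c, ?_, m' * m, mul_mem hm'J hmJ, ?_⟩
  · refine Subgroup.mem_centralizer_iff.2 fun x hx => ?_
    have hle : Cfsg.omegaOne 2 (jh (S : Subgroup G) ⊓ Subgroup.centralizer (jh (S : Subgroup G) : Set G)) ≤
        (Cfsg.omegaOne 2 (jh (TL : Subgroup ↥L) ⊓
          Subgroup.centralizer (jh (TL : Subgroup ↥L) : Set ↥L))).map L.subtype := by
      refine (Subgroup.closure_le _).2 ?_
      rintro y ⟨⟨hy1, hy2⟩, hy3⟩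
      have hyA : y ∈ J := by
        obtain ⟨A, hA⟩ := JComp.mx_nonempty (S : Subgroup G)
        exact JComp.mx_le_J hA (JComp.mem_mx_of_commute hA (jh_le _ hy1) hy3 fun a ha =>
          (Subgroup.mem_centralizer_iff.1 hy2 a (J_le_jh _ (JComp.mx_le_J hA ha))).symm)
      have hjm : (jh (TL : Subgroup ↥L)).map L.subtype = jh ((S : Subgroup G) ⊓ L) := by
        rw [jh_map L.subtype L.subtype_injective, hmap]
      have hsub : jh ((S : Subgroup G) ⊓ L) ≤ jh (S : Subgroup G) :=
        sSup_le fun U hU => le_sSup ⟨hU.1.trans inf_le_left, hU.2.1, le_of_eq_of_le hJT.symm hU.2.2⟩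
      have hyjh : (⟨y, hJL hyA⟩ : L) ∈ jh (TL : Subgroup ↥L) := by
        have h1 : y ∈ (jh (TL : Subgroup ↥L)).map L.subtype := hjm ▸ J_le_jh _ (hJT.ge hyA)
        obtain ⟨z, hz, hze⟩ := h1
        rwa [show (⟨y, hJL hyA⟩ : L) = z from Subtype.ext hze.symm]
      refine ⟨⟨y, hJL hyA⟩, Subgroup.subset_closure ⟨⟨hyjh, ?_⟩, Subtype.ext hy3⟩, rfl⟩
      refine Subgroup.mem_centralizer_iff.2 fun z hz => Subtype.ext ?_
      exact Subgroup.mem_centralizer_iff.1 hy2 _ (hsub (hjm ▸ ⟨z, hz, rfl⟩))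
    obtain ⟨z, hz, rfl⟩ := hle hx
    exact congrArg Subtype.val (Subgroup.mem_centralizer_iff.1 hc z hz)
  · rw [← mul_assoc]
    exact congrArg (· * m) (congrArg Subtype.val hlcm)

end Cfsg.Agent.Solv.TwoFac
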