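import Cfsg.Agent.Lib.Solv.TwoFactor.PairStep
import Cfsg.Agent.Lib.Fusion.ZJElementary

/-!
Conjugates of the Thompson subgroup centralise normal subgroups with the E-condition.
-/

set_option autoImplicit false
set_option linter.style.haveILetI false
set_option linter.unusedSectionVars false

open scoped commutatorElement
open Cfsg.Agent.Fusion (cj)

namespace Cfsg.Agent.Solv.TwoFac

universe u

variable {G : Type u} [Group G] [Finite G] [Fact (Nat.Prime 2)]

theorem J_def (T : Subgroup G) :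
    Cfsg.thompsonSubgroupOf 2 T = sSup (JComp.mx T) := JComp.J_eq T

/-- The Thompson subgroup and injective maps. -/
theorem jElem_map {H : Type u} [Group H] [Finite H] (f : H →* G) (hf : Function.Injective f)
    (T : Subgroup H) :
    (Cfsg.thompsonSubgroupOf 2 T).map f = Cfsg.thompsonSubgroupOf 2 (T.map f) := by
  have hel : ∀ A : Subgroup H, Cfsg.IsElementaryAbelian 2 A →
      Cfsg.IsElementaryAbelian 2 (A.map f) := fun A hA => by
    haveI := hA.1
    refine ⟨inferInstance, ?_⟩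
    rintro _ ⟨a, ha, rfl⟩
    rw [← map_pow, hA.2 a ha, map_one]
  have hback : ∀ B : Subgroup G, Cfsg.IsElementaryAbelian 2 B →
      Cfsg.IsElementaryAbelian 2 (B.comap f) := fun B hB =>
    ⟨⟨⟨fun a b => Subtype.ext (hf (by
      rw [Subgroup.coe_mul, Subgroup.coe_mul, map_mul, map_mul]
      exact congrArg Subtype.val (hB.1.is_comm.comm ⟨_, a.2⟩ ⟨_, b.2⟩)))⟩⟩,
      fun a ha => hf (by rw [map_pow, map_one]; exact hB.2 _ ha)⟩
  have hround : ∀ B ≤ T.map f, (B.comap f).map f = B := fun B hB =>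
    Subgroup.map_comap_eq_self (hB.trans (MonoidHom.range_eq_map f ▸ Subgroup.map_mono le_top))
  have hT : ∀ B ≤ T.map f, B.comap f ≤ T := fun B hB x hx => by
    obtain ⟨y, hy, hyx⟩ := hB hx
    rwa [← hf hyx]
  rw [J_def, J_def, sSup_eq_iSup, Subgroup.map_iSup]
  simp only [Subgroup.map_iSup]
  refine le_antisymm (iSup₂_le fun A hA => le_sSup ?_) (sSup_le fun B hB => ?_)
  · refine ⟨Subgroup.map_mono hA.1, hel A hA.2.1, fun B hB hBe => ?_⟩
    rw [← hround B hB, Subgroup.card_map_of_injective hf, Subgroup.card_map_of_injective hf]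
    exact hA.2.2 _ (hT B hB) (hback B hBe)
  · refine le_iSup₂_of_le (B.comap f) ⟨hT B hB.1, hback B hB.2.1, fun A hA hAe => ?_⟩ (hround B hB.1).ge
    have h1 : Nat.card (A.map f) = Nat.card A := Subgroup.card_map_of_injective hf
    have h2 : Nat.card ((B.comap f).map f) = Nat.card (B.comap f) := Subgroup.card_map_of_injective hf
    rw [← h1, ← h2, hround B hB.1]
    exact hB.2.2 _ (Subgroup.map_mono hA) (hel A hAe)

theorem cj_le_centralizer_iff {X V : Subgroup G} {g : G} :
    cj X g ≤ Subgroup.centralizer (V : Set G) ↔ X ≤ Subgroup.centralizer (cj V g⁻¹ : Set G) := by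
  rw [Fusion.cj_le_iff, Fusion.cj_centralizer]

theorem cj_eq_of_commutes {V : Subgroup G} {c : G} (hc : c ∈ Subgroup.centralizer (V : Set G)) :
    cj V c = V :=
  Fusion.cj_eq_self (Subgroup.centralizer_le_normalizer _ hc)

/-- A commuting product of elementary abelian subgroups. -/
theorem elem_sup {A B : Subgroup G} (hA : Cfsg.IsElementaryAbelian 2 A) (hB : Cfsg.IsElementaryAbelian 2 B)
    (h : A ≤ Subgroup.centralizer (B : Set G)) : Cfsg.IsElementaryAbelian 2 (A ⊔ B) := by
  have hn : B ≤ Subgroup.normalizer (A : Set G) :=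
    le_trans (Subgroup.le_centralizer_iff.1 h) (Subgroup.centralizer_le_normalizer _)
  have hc : ∀ a ∈ A, ∀ b ∈ B, Commute b a := fun a ha b hb => Subgroup.mem_centralizer_iff.1 (h ha) b hb
  have key : ∀ x ∈ A ⊔ B, ∃ a ∈ A, ∃ b ∈ B, a * b = x := fun x hx => (JComp.mem_sup_iff_mul hn).1 hx
  refine ⟨⟨⟨fun ⟨x, hx⟩ ⟨y, hy⟩ => Subtype.ext ?_⟩⟩, fun x hx => ?_⟩
  · obtain ⟨a, ha, b, hb, rfl⟩ := key x hx
    obtain ⟨a', ha', b', hb', rfl⟩ := key y hy
    exact (Commute.mul_left
      (Commute.mul_right (OffGain.comm_mem hA ha ha') (hc a ha b' hb').symm)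
      (Commute.mul_right (hc a' ha' b hb) (OffGain.comm_mem hB hb hb'))).eq
  · obtain ⟨a, ha, b, hb, rfl⟩ := key x hx
    rw [(hc a ha b hb).symm.mul_pow, hA.2 a ha, hB.2 b hb, one_mul]

/-- The largest elementary abelian subgroups absorb. -/
theorem card_gain {T A U : Subgroup G} (hA : A ∈ JComp.mx T) (hU : U ≤ T)
    (hUe : Cfsg.IsElementaryAbelian 2 U) :
    (Subgroup.centralizer (A : Set G)).relIndex U ≤ (Subgroup.centralizer (U : Set G)).relIndex A := by
  set AC := A ⊓ Subgroup.centralizer (U : Set G)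
  have hW := elem_sup (elem_mono hA.2.1 inf_le_left) hUe (inf_le_right : AC ≤ _)
  have hcard : Nat.card ↥(AC ⊔ U) ≤ Nat.card A := hA.2.2 _ (sup_le (inf_le_left.trans hA.1) hU) hW
  have h1 := Solv.card_sup_mul_card_inf' AC U
    (le_trans (Subgroup.le_centralizer_iff.1 inf_le_right) (Subgroup.centralizer_le_normalizer _))
  have h2 : AC ⊓ U ≤ U ⊓ Subgroup.centralizer (A : Set G) := fun x hx =>
    ⟨hx.2, Subgroup.mem_centralizer_iff.2 fun a ha => OffGain.comm_mem hA.2.1 ha hx.1.1⟩
  have h3 := Subgroup.card_le_of_le h2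
  have h4 : (Subgroup.centralizer (A : Set G)).relIndex U * Nat.card ↥(U ⊓ Subgroup.centralizer (A : Set G)) =
      Nat.card U := relIndex_mul_card
  have h5 : (Subgroup.centralizer (U : Set G)).relIndex A * Nat.card AC = Nat.card A := relIndex_mul_card
  refine Nat.le_of_mul_le_mul_right ?_ (Nat.mul_pos (Nat.card_pos (α := AC))
    (Nat.card_pos (α := ↥(U ⊓ Subgroup.centralizer (A : Set G)))))
  calc (Subgroup.centralizer (A : Set G)).relIndex U *
        (Nat.card AC * Nat.card ↥(U ⊓ Subgroup.centralizer (A : Set G)))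
      = Nat.card AC * Nat.card U := by rw [← h4]; ring
    _ = Nat.card ↥(AC ⊔ U) * Nat.card ↥(AC ⊓ U) := h1.symm
    _ ≤ Nat.card A * Nat.card ↥(U ⊓ Subgroup.centralizer (A : Set G)) := Nat.mul_le_mul hcard h3
    _ = _ := by rw [← h5]; ring

/-- Subgroups with the E-condition are centralised by the Thompson subgroup and lie in it. -/
theorem basic {T V : Subgroup G} (hVT : V ≤ T) (hVe : Cfsg.IsElementaryAbelian 2 V) (hE : EC T V) :
    Cfsg.thompsonSubgroupOf 2 T ≤ Subgroup.centralizer (V : Set G) ∧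
      V ≤ Cfsg.thompsonSubgroupOf 2 T := by
  have key : ∀ A ∈ JComp.mx T, A ≤ Subgroup.centralizer (V : Set G) := by
    intro A hA
    by_contra hne
    have h1 := hE.elementary hA.1 hA.2.1 hne
    have h2 := card_gain hA hVT hVe
    have h3 := relIndex_pos (Subgroup.centralizer (V : Set G)) A
    have h4 := Nat.pow_le_pow_left h2 2
    nlinarith
  refine ⟨(J_def T).trans_le (sSup_le key), ?_⟩
  obtain ⟨A, hA⟩ := JComp.mx_nonempty T
  have hW := elem_sup hA.2.1 hVe (key A hA)
  have h1 : A = A ⊔ V := Subgroup.eq_of_le_of_card_ge le_sup_left (hA.2.2 _ (sup_le hA.1 hVT) hW)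
  exact (le_sup_right.trans h1.ge).trans (JComp.mx_le_J hA)

/-- Conjugates of the Thompson subgroup centralise `V`. -/
theorem claim : ∀ (n : ℕ) {G : Type u} [Group G] [Finite G], Nat.card G = n →
    Subgroup.centralizer (Cfsg.pCore 2 G : Set G) ≤ Cfsg.pCore 2 G →
    ¬ Cfsg.Involves (Equiv.Perm (Fin 4)) G → KG G → ∀ (S : Sylow 2 G) (V : Subgroup G),
    V ≤ (S : Subgroup G) → Cfsg.IsElementaryAbelian 2 V →
    (S : Subgroup G) ≤ Subgroup.normalizer (V : Set G) → EC (S : Subgroup G) V →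
    ∀ g : G, cj (Cfsg.thompsonSubgroupOf 2 (S : Subgroup G)) g ≤ Subgroup.centralizer (V : Set G) := by
  intro n
  induction n using Nat.strong_induction_on with
  | _ n ih =>
  intro G _ _ hn hQ hS4 hK S V hVS hVe hVn hE
  haveI : Fact (Nat.Prime 2) := ⟨Nat.prime_two⟩
  set J := Cfsg.thompsonSubgroupOf 2 (S : Subgroup G) with hJ
  set Q := Cfsg.pCore 2 G with hQdef
  set O := Cfsg.pResidual 2 G
  obtain ⟨hJV, hVJ⟩ := basic hVS hVe hE
  have hQS : Q ≤ (S : Subgroup G) := Fusion.pCore_le_sylow S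
  -- proper overgroups of `S`
  have hsub : ∀ H : Subgroup G, (S : Subgroup G) ≤ H → H ≠ ⊤ → KG H →
      ∀ h ∈ H, cj J h ≤ Subgroup.centralizer (V : Set G) := by
    intro H hSH hH hKH h hh
    let S' := S.subtype hSH
    have hlt : Nat.card H < n := hn ▸ lt_of_le_of_ne (Subgroup.card_le_card_group H) fun e =>
      hH (Subgroup.eq_top_of_card_eq H e)
    have hQH : Q.subgroupOf H ≤ Cfsg.pCore 2 ↥H := by
      haveI : (Q.subgroupOf H).Normal := inferInstance
      exact Fusion.le_pCore ((Fusion.isPGroup_pCore 2 G).comap_subtype)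
    have hQ' : Subgroup.centralizer (Cfsg.pCore 2 ↥H : Set ↥H) ≤ Cfsg.pCore 2 ↥H := fun x hx => by
      refine hQH (hQ (Subgroup.mem_centralizer_iff.2 fun q hq => ?_))
      exact congrArg Subtype.val (Subgroup.mem_centralizer_iff.1 hx ⟨q, hSH (hQS hq)⟩ (hQH hq))
    have hS4' : ¬ Cfsg.Involves (Equiv.Perm (Fin 4)) ↥H := fun hinv => by
      obtain ⟨K, f, hf⟩ := Fusion.involves_exists_surjective hinv
      exact hS4 (Fusion.involves_of_surjective
        (f.comp (K.equivMapOfInjective H.subtype H.subtype_injective).symm.toMonoidHom)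
        (hf.comp (K.equivMapOfInjective H.subtype H.subtype_injective).symm.surjective))
    have hS' : (S' : Subgroup ↥H) = (S : Subgroup G).subgroupOf H := rfl
    have hVH : V ≤ H := hVS.trans hSH
    have hVe' : Cfsg.IsElementaryAbelian 2 (V.subgroupOf H) :=
      ⟨⟨⟨fun a b => Subtype.ext (Subtype.ext (OffGain.comm_mem hVe a.2 b.2))⟩⟩,
        fun a ha => Subtype.ext (hVe.2 _ ha)⟩
    have hcen : ∀ X : Subgroup G, X ≤ H →
        Subgroup.centralizer ((X.subgroupOf H : Subgroup ↥H) : Set ↥H) =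
          (Subgroup.centralizer (X : Set G)).subgroupOf H := by
      intro X hX
      ext y
      rw [Subgroup.mem_subgroupOf, Subgroup.mem_centralizer_iff, Subgroup.mem_centralizer_iff]
      exact ⟨fun h x hx => congrArg Subtype.val (h ⟨x, hX hx⟩ hx), fun h x hx => Subtype.ext (h x hx)⟩
    have hE' : EC (S' : Subgroup ↥H) (V.subgroupOf H) := by
      intro R hR hRc hRsq hRne
      rw [hcen V hVH] at hRc hRsq hRne ⊢
      have hR' : R.map H.subtype ≤ (S : Subgroup G) := by
        rintro _ ⟨x, hx, rfl⟩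
        exact hR hx
      have hRH : R.map H.subtype ≤ H := Subgroup.map_subtype_le R
      have hRe : R = (R.map H.subtype).subgroupOf H :=
        (Subgroup.comap_map_eq_self_of_injective H.subtype_injective R).symm
      have hh' := hE (R.map H.subtype) hR' (by
          rw [← Subgroup.map_commutator, Subgroup.map_le_iff_le_comap]; exact hRc)
        (by rintro _ ⟨x, hx, rfl⟩; exact hRsq x hx)
        (fun hle => hRne (Subgroup.map_le_iff_le_comap.1 hle))
      rw [hRe, hcen _ hRH, Subgroup.relIndex_subgroupOf hRH, Subgroup.relIndex_subgroupOf hVH]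
      exact hh'
    have hres := ih _ hlt rfl hQ' hS4' hKH S' (V.subgroupOf H) (fun x hx => hVS hx) hVe' (fun x hx => by
      refine Subgroup.mem_normalizer_iff.2 fun y => ?_
      exact Subgroup.mem_normalizer_iff.1 (hVn hx) (y : G)) hE' ⟨h, hh⟩
    have hJ' : (Cfsg.thompsonSubgroupOf 2 (S' : Subgroup ↥H)).map H.subtype = J := by
      rw [jElem_map H.subtype H.subtype_injective, hS', Subgroup.map_subgroupOf_eq_of_le hSH]
    rintro _ ⟨j, hj, rfl⟩
    rw [← hJ'] at hj
    obtain ⟨j', hj', rfl⟩ := hj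
    have h1 := hres ⟨j', hj', rfl⟩
    rw [hcen V hVH] at h1
    exact h1
  by_contra hgoal
  apply hgoal
  intro g
  -- `V` is not normal
  by_cases hnormal : ∀ x : G, cj V x = V
  · rw [cj_le_centralizer_iff, hnormal]
    exact hJV
  -- the covering property
  by_cases hcov : ∃ C : Subgroup G, C.Normal ∧ C ⊔ (S : Subgroup G) ≠ ⊤ ∧ ¬ (S : Subgroup G) ⊓ C ≤ Q
  · obtain ⟨C, hCn, hCS, hCQ⟩ := hcov
    set H := Subgroup.normalizer (((S : Subgroup G) ⊓ C : Subgroup G) : Set G)
    have hSH : (S : Subgroup G) ≤ H := fun s hs => Subgroup.mem_normalizer_iff.2 fun x => by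
      simp only [Subgroup.mem_inf]
      exact and_congr (by rw [Subgroup.mul_mem_cancel_right _ (inv_mem hs), Subgroup.mul_mem_cancel_left _ hs])
        ⟨fun hx => hCn.conj_mem x hx s, fun hx => by simpa [mul_assoc] using hCn.conj_mem _ hx s⁻¹⟩
    have hH : H ≠ ⊤ := fun e => by
      haveI : ((S : Subgroup G) ⊓ C).Normal := Subgroup.normalizer_eq_top_iff.1 e
      exact hCQ (Fusion.le_pCore (S.isPGroup'.to_le inf_le_left))
    have hIH : ∀ h ∈ H, cj J h ≤ Subgroup.centralizer (V : Set G) :=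
      hsub H hSH hH (kg_normalizer hK C S)
    set M := C ⊔ ⨆ h : H, cj J (h : G)
    have hD : (⨆ h : H, cj J (h : G)) ≤ Subgroup.centralizer (V : Set G) := iSup_le fun h => hIH h h.2
    obtain ⟨T, hT⟩ := ((Fusion.sylIn_top S).inf_normal (le_top : C ≤ ⊤)
      (by rw [Subgroup.normalizer_eq_top])).exists_sylow_subgroupOf
    have hfr := Sylow.normalizer_sup_eq_top T
    rw [hT, Subgroup.map_subgroupOf_eq_of_le inf_le_right] at hfr
    have hM : ∀ x : G, cj J x ≤ M := fun x => by
      obtain ⟨c, hc, h, hh, rfl⟩ :=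
        Subgroup.mem_sup_of_normal_left.1 (sup_comm H C ▸ hfr ▸ Subgroup.mem_top x : x ∈ C ⊔ H)
      rw [← Fusion.cj_cj, ← Fusion.cj_eq_self_of_mem (H := M) (Subgroup.mem_sup_left hc)]
      exact Fusion.cj_mono
        (le_sup_of_le_right (le_iSup (fun h : H => cj J (h : G)) ⟨h, hh⟩)) c
    set L := Subgroup.normalClosure (J : Set G)
    have hLM : L ≤ M := (Subgroup.closure_le _).2 fun z hz => by
      obtain ⟨j, hj, hjz⟩ := Group.mem_conjugatesOfSet_iff.1 hz
      obtain ⟨x, rfl⟩ := isConj_iff.1 hjz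
      exact hM x (Fusion.conj_mem_cj hj)
    obtain ⟨TL, hTL⟩ := ((Fusion.sylIn_top S).inf_normal (le_top : L ≤ ⊤)
      (by rw [Subgroup.normalizer_eq_top])).exists_sylow_subgroupOf
    have hfrL := Sylow.normalizer_sup_eq_top TL
    rw [hTL, Subgroup.map_subgroupOf_eq_of_le inf_le_right, sup_comm] at hfrL
    obtain ⟨l, hl, m, hm, rfl⟩ := Subgroup.mem_sup_of_normal_left.1 (hfrL ▸ Subgroup.mem_top g)
    have hJT : Cfsg.thompsonSubgroupOf 2 ((S : Subgroup G) ⊓ L) = J := by
      rw [hJ, J_def, J_def]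
      have := Fusion.maxIn_eq_of_le (ok := fun A : Subgroup G => Cfsg.IsElementaryAbelian 2 A)
        (Fusion.replFamily_elementary 2) (inf_le_left : (S : Subgroup G) ⊓ L ≤ S)
        fun A hA => le_inf hA.1 ((JComp.mx_le_J hA).trans Subgroup.le_normalClosure)
      rw [JComp.mx, this]
    rw [← Fusion.cj_cj, show cj J m = J by
      rw [← hJT, JComp.thompson_cj, Fusion.cj_eq_self hm], cj_le_centralizer_iff]
    have hlM : l⁻¹ ∈ M := inv_mem (hLM hl)
    obtain ⟨c, hc, d, hd, hcd⟩ := Subgroup.mem_sup_of_normal_left.1 hlM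
    rw [← hcd, ← Fusion.cj_cj, cj_eq_of_commutes (hD hd)]
    have h1 := hsub (C ⊔ (S : Subgroup G)) le_sup_right hCS (kg_sup_two hK C _ S.isPGroup') c⁻¹
      (inv_mem (Subgroup.mem_sup_left hc))
    rwa [cj_le_centralizer_iff, inv_inv] at h1
  exfalso
  push Not at hcov
  have c : Ctx S := ⟨hQ, hS4, hK, hcov⟩
  have hVQ : V ≤ Q := le_core c hVS hVe hVn hE
  -- conjugates of `V` commute
  haveI hQn : Q.Normal := inferInstance
  haveI hOn : O.Normal := inferInstance
  have hVgQ : ∀ x : G, cj V x ≤ Q := fun x => (Fusion.cj_mono hVQ x).trans (Fusion.cj_of_normal Q x).le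
  have hcomm : ∀ x : G, cj V x ≤ Subgroup.centralizer (V : Set G) := by
    intro x
    by_contra hne
    have hne' : ¬ cj V x⁻¹ ≤ Subgroup.centralizer (V : Set G) := fun h => hne <| by
      rw [cj_le_centralizer_iff, inv_inv] at h
      exact Subgroup.le_centralizer_iff.1 h
    have h1 := hE.elementary ((hVgQ x).trans hQS) (elem_cj hVe x) hne
    have h2 := hE.elementary ((hVgQ x⁻¹).trans hQS) (elem_cj hVe x⁻¹) hne'
    rw [← relIndex_cj' _ _ x, Fusion.cj_centralizer, Fusion.cj_inv_cj] at h2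
    nth_rewrite 2 [← relIndex_cj' _ _ x] at h2
    rw [Fusion.cj_centralizer, Fusion.cj_inv_cj] at h2
    have hp := relIndex_pos (Subgroup.centralizer (V : Set G)) (cj V x)
    have hq := relIndex_pos (Subgroup.centralizer (cj V x : Set G)) V
    have h3 := Nat.mul_lt_mul'' h1 h2
    nlinarith [Nat.mul_pos hp hq]
  set U := Subgroup.normalClosure (V : Set G)
  haveI hUn : U.Normal := Subgroup.normalClosure_normal
  have hVU : V ≤ U := Subgroup.le_normalClosure
  have hUgen : ∀ X : Subgroup G, (∀ x : G, cj V x ≤ X) → U ≤ X := fun X hX =>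
    (Subgroup.closure_le _).2 fun z hz => by
      obtain ⟨v, hv, hvz⟩ := Group.mem_conjugatesOfSet_iff.1 hz
      obtain ⟨x, rfl⟩ := isConj_iff.1 hvz
      exact hX x (Fusion.conj_mem_cj hv)
  have hUQ : U ≤ Q := hUgen Q hVgQ
  have hUg : ∀ x : G, cj V x ≤ U := fun x => (Fusion.cj_mono hVU x).trans (Fusion.cj_of_normal U x).le
  have hUab : U ≤ Subgroup.centralizer (U : Set G) := by
    refine Subgroup.le_centralizer_iff.1 (hUgen _ fun x => ?_)
    refine Subgroup.le_centralizer_iff.1 (hUgen _ fun y => ?_)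
    have h1 := Fusion.cj_mono (hcomm (x⁻¹ * y)) x
    rwa [Fusion.cj_cj, mul_inv_cancel_left, Fusion.cj_centralizer] at h1
  have hUe : Cfsg.IsElementaryAbelian 2 U := by
    have hc : ∀ a ∈ U, ∀ b ∈ U, a * b = b * a := fun a ha b hb =>
      (Subgroup.mem_centralizer_iff.1 (hUab ha) b hb).symm
    refine ⟨⟨⟨fun a b => Subtype.ext (hc a a.2 b b.2)⟩⟩, ?_⟩
    let Sq : Subgroup G :=
      { carrier := {a | a ∈ U ∧ a ^ 2 = 1}
        one_mem' := ⟨U.one_mem, one_pow 2⟩
        mul_mem' := fun {a b} ha hb => ⟨U.mul_mem ha.1 hb.1, by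
          rw [(show Commute a b from hc a ha.1 b hb.1).mul_pow, ha.2, hb.2, one_mul]⟩
        inv_mem' := fun {a} ha => ⟨U.inv_mem ha.1, by rw [inv_pow, ha.2, inv_one]⟩ }
    exact fun a ha => ((hUgen Sq fun x z hz => ⟨hUg x hz, (elem_cj hVe x).2 z hz⟩) ha).2
  -- the elements of odd order move `U`
  set U0 := U ⊓ centMod (⊥ : Subgroup G) O
  have hU0O : ⁅U0, O⁆ ≤ ⊥ := le_centMod.1 inf_le_right
  have hgen : ∀ x : G, ∃ o ∈ O, ∃ s ∈ (S : Subgroup G), o * s = x := fun x =>
    Subgroup.mem_sup_of_normal_left.1 (Fusion.pResidual_sup_sylow S ▸ Subgroup.mem_top x)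
  have hU0ne : ¬ U ≤ U0 := by
    intro hle
    refine hnormal fun x => ?_
    obtain ⟨o, ho, s, hs, rfl⟩ := hgen x
    rw [← Fusion.cj_cj, Fusion.cj_eq_self (hVn hs)]
    refine cj_eq_of_commutes (Subgroup.mem_centralizer_iff.2 fun v hv => ?_)
    exact commutatorElement_eq_one_iff_mul_comm.1
      (Subgroup.mem_bot.1 (mem_centMod.1 (hle (hVU hv)).2 o ho))
  -- an offender
  obtain ⟨A, hA, hAU⟩ : ∃ A ∈ JComp.mx (S : Subgroup G), ¬ A ≤ Subgroup.centralizer (U : Set G) := by
    by_contra hno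
    push Not at hno
    refine hgoal fun x => cj_le_centralizer_iff.2 ?_
    exact ((J_def _).trans_le (sSup_le hno)).trans (Subgroup.centralizer_le (hUg x⁻¹))
  have hCU : (S : Subgroup G) ⊓ Subgroup.centralizer (U : Set G) ≤ Q := by
    refine hcov _ inferInstance fun htop => hnormal fun x => ?_
    obtain ⟨u, hu, s, hs, rfl⟩ := Subgroup.mem_sup_of_normal_left.1 (htop ▸ Subgroup.mem_top x)
    rw [← Fusion.cj_cj, Fusion.cj_eq_self (hVn hs)]
    exact cj_eq_of_commutes (Subgroup.centralizer_le hVU hu)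
  set CA := Subgroup.centralizer (A : Set G)
  set RA := A ⊓ Q
  set a := Q.relIndex A
  set r := (Subgroup.centralizer (U : Set G)).relIndex RA
  set D := CA.relIndex U
  set u := (Subgroup.centralizer (RA : Set G)).relIndex U
  have har : (Subgroup.centralizer (U : Set G)).relIndex A = r * a := by
    have h1 : A ⊓ Subgroup.centralizer (U : Set G) ≤ RA :=
      le_inf inf_le_left ((inf_le_inf_right _ hA.1).trans hCU)
    rw [← Subgroup.inf_relIndex_left, ← Subgroup.relIndex_mul_relIndex _ RA A h1 inf_le_left,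
      Subgroup.inf_relIndex_left]
    congr 1
    rw [← Subgroup.inf_relIndex_left, show RA ⊓ (A ⊓ Subgroup.centralizer (U : Set G)) =
      RA ⊓ Subgroup.centralizer (U : Set G) by rw [← inf_assoc, inf_eq_left.2 (inf_le_left : RA ≤ A)],
      Subgroup.inf_relIndex_left]
  have hD : D ≤ r * a := har ▸ card_gain hA (hUQ.trans hQS) hUe
  -- the product lemma
  have hprod : ∀ R : Subgroup G, R ≤ Q → Cfsg.IsElementaryAbelian 2 R →
      (Subgroup.centralizer (U : Set G)).relIndex R ^ 3 ≤
        (Subgroup.centralizer (R : Set G)).relIndex U ^ 2 := by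
    intro R
    induction hm : Nat.card R using Nat.strong_induction_on generalizing R with
    | _ m ihm =>
    intro hRQ hRe
    by_cases hR : R ≤ Subgroup.centralizer (U : Set G)
    · rw [Subgroup.relIndex_eq_one.2 hR, one_pow]
      exact Nat.one_le_pow _ _ (relIndex_pos _ _)
    obtain ⟨x, hx⟩ : ∃ x, ¬ R ≤ Subgroup.centralizer (cj V x : Set G) := by
      by_contra hno
      push Not at hno
      exact hR (Subgroup.le_centralizer_iff.1 (hUgen _ fun x => Subgroup.le_centralizer_iff.1 (hno x)))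
    set W := cj V x
    set R0 := R ⊓ Subgroup.centralizer (W : Set G)
    have hlt : Nat.card R0 < Nat.card R := lt_of_le_of_ne (Subgroup.card_le_of_le inf_le_left) fun e =>
      hx ((Subgroup.eq_of_le_of_card_ge inf_le_left e.ge).ge.trans inf_le_right)
    have h0 := ihm _ (hm ▸ hlt) R0 rfl (inf_le_left.trans hRQ) (elem_mono hRe inf_le_left)
    have hRx : cj R x⁻¹ ≤ (S : Subgroup G) :=
      ((Fusion.cj_mono hRQ _).trans (Fusion.cj_of_normal Q _).le).trans hQS
    have h1 : (Subgroup.centralizer (W : Set G)).relIndex R ^ 3 <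
        (Subgroup.centralizer (R : Set G)).relIndex W ^ 2 := by
      have h2 := hE.elementary hRx (elem_cj hRe _) (fun h => hx (by
        rw [cj_le_centralizer_iff, inv_inv] at h; exact h))
      rw [← relIndex_cj' _ _ x, Fusion.cj_centralizer, Fusion.cj_inv_cj] at h2
      nth_rewrite 2 [← relIndex_cj' _ _ x] at h2
      rwa [Fusion.cj_centralizer, Fusion.cj_inv_cj] at h2
    have hr : (Subgroup.centralizer (U : Set G)).relIndex R =
        (Subgroup.centralizer (U : Set G)).relIndex R0 * (Subgroup.centralizer (W : Set G)).relIndex R := by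
      have h3 : R ⊓ Subgroup.centralizer (U : Set G) ≤ R0 :=
        inf_le_inf_left _ (Subgroup.centralizer_le (hUg x))
      rw [← Subgroup.inf_relIndex_left R, ← Subgroup.relIndex_mul_relIndex _ R0 R h3 inf_le_left]
      congr 1
      · rw [← Subgroup.inf_relIndex_left, show R0 ⊓ (R ⊓ Subgroup.centralizer (U : Set G)) =
          R0 ⊓ Subgroup.centralizer (U : Set G) by rw [← inf_assoc, inf_eq_left.2 (inf_le_left : R0 ≤ R)],
          Subgroup.inf_relIndex_left]
      · exact Subgroup.inf_relIndex_left R _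
    set C0 := U ⊓ Subgroup.centralizer (R0 : Set G)
    have hu : (Subgroup.centralizer (R0 : Set G)).relIndex U * (Subgroup.centralizer (R : Set G)).relIndex W ≤
        (Subgroup.centralizer (R : Set G)).relIndex U := by
      have h3 : U ⊓ Subgroup.centralizer (R : Set G) ≤ C0 :=
        inf_le_inf_left _ (Subgroup.centralizer_le inf_le_left)
      rw [← Subgroup.inf_relIndex_left U (Subgroup.centralizer (R : Set G)),
        ← Subgroup.relIndex_mul_relIndex _ C0 U h3 inf_le_left, mul_comm _ (C0.relIndex U)]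
      refine Nat.mul_le_mul (Subgroup.inf_relIndex_left U _).ge ?_
      refine le_trans (relIndex_le_left inf_le_right) (relIndex_le_right (le_inf (hUg x) ?_))
      exact Subgroup.le_centralizer_iff.1 inf_le_right
    rw [hr, mul_pow]
    refine le_trans (Nat.mul_le_mul h0 h1.le) ?_
    rw [← mul_pow]
    exact Nat.pow_le_pow_left hu 2
  have hru : r ^ 3 ≤ u ^ 2 := hprod RA inf_le_right (elem_mono hA.2.1 inf_le_left)
  have huD : u ≤ D := relIndex_le_left (Subgroup.centralizer_le inf_le_left)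
  have hr0 : 0 < r := relIndex_pos _ _
  have ha0 : 0 < a := relIndex_pos _ _
  have hra : r ≤ a ^ 2 := by
    have h1 : r * r ^ 2 ≤ a ^ 2 * r ^ 2 := by
      calc r * r ^ 2 = r ^ 3 := by ring
        _ ≤ (r * a) ^ 2 := hru.trans (Nat.pow_le_pow_left (huD.trans hD) 2)
        _ = _ := by ring
    exact Nat.le_of_mul_le_mul_right h1 (by positivity)
  have ha : 1 < a := by
    by_contra hle
    have h1 : a = 1 := by omega
    rw [h1] at hra har
    refine hAU (Subgroup.relIndex_eq_one.1 ?_)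
    rw [har]
    omega
  have hsect := fun (N M : Subgroup G) (_ : N.Normal) (_ : M.Normal) (h1 : N ≤ M) (h2 : M ≤ U)
      (h3 : ¬ ⁅M, O⁆ ≤ N) => sect_lower c N M h1 (h2.trans hUQ) (elem_mono hUe h2) h3 hA.1 hA.2.1
  -- there is only one moved section
  have htwo : ∀ W : Subgroup G, W.Normal → W ≤ U → ¬ ⁅W, O⁆ ≤ ⊥ → ⁅U, O⁆ ≤ W := by
    intro W hWn hWU hWO
    by_contra hUW
    have h1 := hsect W U hWn hUn hWU le_rfl hUW
    have h2 := hsect ⊥ W inferInstance hWn bot_le hWU hWO
    rw [bot_sup_eq] at h2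
    have h3 : W ⊓ (U ⊓ CA) = W ⊓ CA := by rw [← inf_assoc, inf_eq_left.2 hWU]
    have h4 : D = (W ⊔ (U ⊓ CA)).relIndex U * (W ⊓ CA).relIndex W := by
      rw [← h3, Subgroup.inf_relIndex_left W, ← relIndex_split inf_le_left hWU,
        Subgroup.inf_relIndex_left]
    have h5 : a ^ 4 ≤ D := by
      rw [h4, show a ^ 4 = a ^ 2 * a ^ 2 by ring]
      exact Nat.mul_le_mul h1 h2
    have h6 : a ^ 4 ≤ a ^ 2 * a := h5.trans (hD.trans (Nat.mul_le_mul_right _ hra))
    have h7 : a ^ 2 * a * 2 ≤ a ^ 4 := by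
      calc a ^ 2 * a * 2 ≤ a ^ 2 * a * a := Nat.mul_le_mul_left _ ha
        _ = a ^ 4 := by ring
    have h8 : 0 < a ^ 2 * a := by positivity
    omega
  -- the part centralised by the 2-core
  set W1 := U ⊓ centMod U0 Q
  have hUO : ⁅U, O⁆ ≤ W1 := by
    refine htwo W1 inferInstance inf_le_left fun hle => ?_
    obtain ⟨x, hxU, hx0, hxc⟩ := exists_fixed_mod S.isPGroup'
      (lt_of_le_of_ne (inf_le_left : U0 ≤ U) fun e => hU0ne e.ge) (hUQ.trans hQS)
    have hx1 : x ∈ W1 := ⟨hxU, mem_centMod.2 fun q hq => mem_centMod.1 hxc q (hQS hq)⟩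
    exact hx0 ⟨hxU, le_centMod.2 hle hx1⟩
  set K2 := Q ⊓ centMod U0 U
  have hRAK : RA ≤ K2 := by
    refine le_inf inf_le_right (le_centMod.2 (comm_comm_le (le_centMod.1 (hUgen _ fun x => ?_))))
    rintro _ ⟨v, hv, rfl⟩
    obtain ⟨o, ho, s, hs, rfl⟩ := hgen x
    have hv' : s * v * s⁻¹ ∈ V := (Subgroup.mem_normalizer_iff.1 (hVn hs) v).1 hv
    show o * s * v * (o * s)⁻¹ ∈ centMod U0 RA
    rw [show o * s * v * (o * s)⁻¹ = ⁅o, s * v * s⁻¹⁆ * (s * v * s⁻¹) by rw [commutatorElement_def]; group]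
    refine mul_mem ?_ (mem_centMod.2 fun q hq => ?_)
    · have h1 : ⁅o, s * v * s⁻¹⁆ ∈ W1 :=
        comm_comm_le hUO (Subgroup.commutator_mem_commutator ho (hVU hv'))
      exact le_centMod.2 ((Subgroup.commutator_mono le_rfl inf_le_right).trans (le_centMod.1 inf_le_right)) h1
    · have hqC : q ∈ Subgroup.centralizer (V : Set G) := hJV (JComp.mx_le_J hA hq.1)
      rw [commutatorElement_eq_one_iff_mul_comm.2 (Subgroup.mem_centralizer_iff.1 hqC _ hv')]
      exact one_mem _
  set R := ⁅K2, O⁆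
  haveI : R.Normal := inferInstance
  have hK2U : ⁅K2, U⁆ ≤ U0 := le_centMod.1 inf_le_right
  have hK2p : IsPGroup 2 K2 := (Fusion.isPGroup_pCore 2 G).to_le inf_le_left
  have hUO' : ¬ ⁅⁅U, O⁆, O⁆ ≤ ⊥ := fun h =>
    hU0ne (le_inf le_rfl (le_centMod.2 (stab ((Fusion.isPGroup_pCore 2 G).to_le hUQ) h)))
  by_cases hRU : R ≤ Subgroup.centralizer (U : Set G)
  · -- the elementary subgroup centralises `[U, O]`
    set U' := ⁅U, O⁆
    have hU'K : ⁅U', K2⁆ ≤ ⊥ := by
      refine Fusion.three_subgroup_normal ?_ ((Subgroup.commutator_mono hK2U le_rfl).trans hU0O)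
      rw [Subgroup.commutator_comm O K2]
      exact le_bot_iff.2 (Subgroup.commutator_eq_bot_iff_le_centralizer.2 hRU)
    have hU'U : U' ≤ U := Subgroup.commutator_le_left U O
    have h1 := hsect ⊥ U' inferInstance inferInstance bot_le hU'U hUO'
    rw [bot_sup_eq, Subgroup.inf_relIndex_left] at h1
    have h2 : a ^ 2 * u ≤ D := by
      have h3 : U ⊓ CA ≤ U ⊓ Subgroup.centralizer (RA : Set G) :=
        inf_le_inf_left _ (Subgroup.centralizer_le inf_le_left)
      show a ^ 2 * u ≤ CA.relIndex U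
      rw [← Subgroup.inf_relIndex_left U CA, ← Subgroup.relIndex_mul_relIndex _ _ U h3 inf_le_left,
        Subgroup.inf_relIndex_left U (Subgroup.centralizer (RA : Set G))]
      refine Nat.mul_le_mul (h1.trans ((relIndex_le_right ?_).trans (relIndex_le_left inf_le_right))) le_rfl
      refine le_inf hU'U (le_trans ?_ (Subgroup.centralizer_le hRAK))
      exact Subgroup.commutator_eq_bot_iff_le_centralizer.1 (le_bot_iff.1 hU'K)
    have h4 : a * u ≤ r := by
      have h5 : a * (a * u) ≤ a * r := by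
        calc a * (a * u) = a ^ 2 * u := by ring
          _ ≤ r * a := h2.trans hD
          _ = a * r := by ring
      exact Nat.le_of_mul_le_mul_left h5 ha0
    have h6 : a ^ 2 * r * r ^ 2 ≤ 1 * r ^ 2 := by
      calc a ^ 2 * r * r ^ 2 = a ^ 2 * r ^ 3 := by ring
        _ ≤ a ^ 2 * u ^ 2 := Nat.mul_le_mul_left _ hru
        _ = (a * u) ^ 2 := by ring
        _ ≤ _ := by rw [one_mul]; exact Nat.pow_le_pow_left h4 2
    have h7 := Nat.le_of_mul_le_mul_right h6 (by positivity)
    have h8 : 2 ^ 2 * 1 ≤ a ^ 2 * r := Nat.mul_le_mul (Nat.pow_le_pow_left ha 2) hr0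
    omega
  -- the transvection part
  have hRO : R ≤ O := Subgroup.commutator_le_right K2 O
  have hRQ : R ≤ Q := (Subgroup.commutator_le_left K2 O).trans inf_le_left
  have hU0R : U0 ≤ Subgroup.centralizer (R : Set G) :=
    (Subgroup.commutator_eq_bot_iff_le_centralizer.1
      (le_bot_iff.1 ((Subgroup.commutator_mono le_rfl hRO).trans hU0O)))
  set P := ⁅U, R⁆
  haveI hPn : P.Normal := inferInstance
  have hP0 : P ≤ U0 := comm_comm_le ((Subgroup.commutator_mono (Subgroup.commutator_le_left K2 O) le_rfl).trans hK2U)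
  have hPne : P ≠ ⊥ := fun e => hRU
    (Subgroup.le_centralizer_iff.1 (Subgroup.commutator_eq_bot_iff_le_centralizer.1 e))
  obtain ⟨L, ⟨hLn, hLP⟩, hLmax⟩ := Set.exists_max_image {L : Subgroup G | L.Normal ∧ L < P}
    (fun L : Subgroup G => Nat.card L) (Set.toFinite _) ⟨⊥, inferInstance, bot_lt_iff_ne_bot.2 hPne⟩
  haveI := hLn
  obtain ⟨x, hxP, hxL, hxS⟩ := exists_fixed_mod S.isPGroup' hLP (hP0.trans (inf_le_left.trans (hUQ.trans hQS)))
  have hxG : ∀ y : G, ⁅x, y⁆ ∈ L := by
    have h1 : O ⊔ (S : Subgroup G) ≤ centMod L (Subgroup.zpowers x) := by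
      refine sup_le (fun o ho => mem_centMod.2 ?_) fun s hs => mem_centMod.2 ?_
      all_goals rintro _ ⟨i, rfl⟩
      · have h2 : ⁅o, x ^ i⁆ ∈ (⊥ : Subgroup G) :=
          comm_comm_le hU0O (Subgroup.commutator_mem_commutator ho (zpow_mem (hP0 hxP) i))
        rw [Subgroup.mem_bot.1 h2]; exact one_mem _
      · have h2 := mem_centMod.1 ((centMod L (S : Subgroup G)).zpow_mem hxS i) s hs
        simpa [commutatorElement_inv] using inv_mem h2
    rw [Fusion.pResidual_sup_sylow S] at h1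
    intro y
    simpa [commutatorElement_inv] using
      inv_mem (mem_centMod.1 (h1 (Subgroup.mem_top y)) x (Subgroup.mem_zpowers x))
  have hPx : ∀ p ∈ P, p ∈ L ∨ p * x ∈ L := by
    haveI : (L ⊔ Subgroup.zpowers x).Normal := ⟨fun z hz y => by
      obtain ⟨l, hl, w, ⟨i, rfl⟩, rfl⟩ := Subgroup.mem_sup_of_normal_left.1 hz
      have h2 : x ^ i ∈ centMod L (⊤ : Subgroup G) :=
        zpow_mem (mem_centMod.2 fun y' _ => hxG y') i
      have h3 := inv_mem (mem_centMod.1 h2 y (Subgroup.mem_top y))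
      rw [commutatorElement_inv, commutatorElement_def] at h3
      rw [show y * (l * x ^ i) * y⁻¹ = (y * l * y⁻¹) * (y * x ^ i * y⁻¹ * (x ^ i)⁻¹) * x ^ i by group]
      exact mul_mem (Subgroup.mem_sup_left (mul_mem (hLn.conj_mem l hl y) h3))
        (Subgroup.mem_sup_right (zpow_mem (Subgroup.mem_zpowers x) i))⟩
    have h3 : L ⊔ Subgroup.zpowers x = P := by
      rcases (sup_le hLP.le (Subgroup.zpowers_le.2 hxP) : L ⊔ Subgroup.zpowers x ≤ P).lt_or_eq with h | h
      · refine absurd (hLmax _ ⟨inferInstance, h⟩) (not_le.2 (lt_of_le_of_ne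
          (Subgroup.card_le_of_le le_sup_left) fun e => hxL ?_))
        rw [Subgroup.eq_of_le_of_card_ge le_sup_left e.ge]
        exact Subgroup.mem_sup_right (Subgroup.mem_zpowers x)
      · exact h
    intro p hp
    rw [← h3] at hp
    obtain ⟨l, hl, w, ⟨i, rfl⟩, rfl⟩ := Subgroup.mem_sup_of_normal_left.1 hp
    have hx2 : x * x = 1 := by rw [← pow_two]; exact hUe.2 x (hP0 hxP).1
    rcases Int.even_or_odd i with ⟨j, rfl⟩ | ⟨j, rfl⟩
    · left
      show l * x ^ (j + j) ∈ L
      rw [← two_mul, zpow_mul, zpow_two, hx2, one_zpow, mul_one]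
      exact hl
    · right
      show l * x ^ (2 * j + 1) * x ∈ L
      rw [zpow_add, zpow_mul, zpow_two, hx2, one_zpow, one_mul, zpow_one, mul_assoc, hx2, mul_one]
      exact hl
  set NL := U ⊓ centMod L R
  have hU0NL : U0 ≤ NL := le_inf inf_le_left (le_centMod.2
    (((Subgroup.commutator_eq_bot_iff_le_centralizer.2 hU0R).le).trans bot_le))
  have hNL0 : NL ≤ U0 := by
    refine le_inf inf_le_left (le_centMod.2 ?_)
    by_contra hne
    have h1 : ⁅⁅U, O⁆, R⁆ ≤ L :=
      (Subgroup.commutator_mono (htwo NL inferInstance inf_le_left hne) le_rfl).trans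
        (le_centMod.1 inf_le_right)
    have h2 : ⁅⁅R, U⁆, O⁆ ≤ L :=
      (Subgroup.commutator_mono (comm_comm_le hP0) le_rfl).trans (hU0O.trans bot_le)
    have h3 : ⁅⁅O, R⁆, U⁆ ≤ L := Fusion.three_subgroup_normal h2 h1
    rw [Subgroup.commutator_comm O R, idem hK2p] at h3
    exact hLP.not_ge (comm_comm_le h3)
  -- the pairing
  set C := Subgroup.centralizer (V : Set G)
  have hdual : ∀ k : ℕ, ∀ R1 : Subgroup G, R1 ≤ R → R1.relIndex R = k →
      (V ⊓ centMod L R).relIndex (V ⊓ centMod L R1) ≤ k := by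
    intro k
    induction k using Nat.strong_induction_on with
    | _ k ihk =>
    intro R1 hR1 hk
    by_cases hle : R ≤ R1
    · rw [le_antisymm hR1 hle, Subgroup.relIndex_self]
      exact hk ▸ relIndex_pos _ _
    obtain ⟨t, ht, ht1⟩ := SetLike.not_le_iff_exists.1 hle
    set R2 := R1 ⊔ Subgroup.zpowers t
    have hR2 : R2 ≤ R := sup_le hR1 (Subgroup.zpowers_le.2 ht)
    have hmul := Subgroup.relIndex_mul_relIndex R1 R2 R le_sup_left hR2
    rw [hk] at hmul
    have h12 : 2 ≤ R1.relIndex R2 := by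
      have h1 := relIndex_pos R1 R2
      have h2 : R1.relIndex R2 ≠ 1 := fun e =>
        ht1 (Subgroup.relIndex_eq_one.1 e (Subgroup.mem_sup_right (Subgroup.mem_zpowers t)))
      omega
    have hlt : R2.relIndex R < k := by
      have := relIndex_pos R2 R
      nlinarith
    have h0 := ihk _ hlt R2 hR2 rfl
    set X1 := V ⊓ centMod L R1
    set X2 := V ⊓ centMod L R2
    have hanti : ∀ {A B : Subgroup G}, A ≤ B → centMod L B ≤ centMod L A := fun hAB z hz =>
      mem_centMod.2 fun y hy => mem_centMod.1 hz y (hAB hy)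
    have h21 : X2 ≤ X1 := inf_le_inf_left _ (hanti le_sup_left)
    rw [← Subgroup.relIndex_mul_relIndex (V ⊓ centMod L R) X2 X1 (inf_le_inf_left _ (hanti hR2)) h21]
    refine le_trans (Nat.mul_le_mul h0 (le_trans ?_ h12)) (by rw [← hmul, mul_comm])
    -- index at most two
    have hval : ∀ v ∈ X1, ⁅v, t⁆ ∈ P := fun v hv =>
      Subgroup.commutator_mem_commutator (hVU hv.1) ht
    let χ : ↥X1 →* G ⧸ L := MonoidHom.mk' (fun v => QuotientGroup.mk' L ⁅(v : G), t⁆) fun v w => by
      show QuotientGroup.mk' L ⁅(v : G) * w, t⁆ = _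
      rw [show ⁅(v : G) * w, t⁆ = ((v : G) * ⁅(w : G), t⁆ * (v : G)⁻¹) * ⁅(v : G), t⁆ by
        rw [commutatorElement_def, commutatorElement_def, commutatorElement_def]; group, map_mul]
      have hx1 : ∀ p ∈ P, ∀ y : G, QuotientGroup.mk' L (y * p * y⁻¹) = QuotientGroup.mk' L p := by
        intro p hp y
        have hp2 : p ∈ centMod L (⊤ : Subgroup G) := by
          rcases hPx p hp with h | h
          · exact le_centMod_self L _ h
          · rw [show p = (p * x) * x⁻¹ by group]
            exact mul_mem (le_centMod_self L _ h) (inv_mem (mem_centMod.2 fun y' _ => hxG y'))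
        have h1 := (QuotientGroup.eq_one_iff _).2 (mem_centMod.1 hp2 y (Subgroup.mem_top y))
        change QuotientGroup.mk' L ⁅p, y⁆ = 1 at h1
        rw [map_commutatorElement, commutatorElement_eq_one_iff_mul_comm] at h1
        rw [map_mul, map_mul, map_inv, ← h1, mul_inv_cancel_right]
      rw [hx1 _ (hval w w.2) v]
      have h4 : ∀ p ∈ P, ∀ q : G, QuotientGroup.mk' L p * QuotientGroup.mk' L q =
          QuotientGroup.mk' L q * QuotientGroup.mk' L p := fun p hp q => by
        conv_lhs => rw [← hx1 p hp q]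
        rw [map_mul, map_mul, map_inv, inv_mul_cancel_right]
      exact h4 _ (hval w w.2) _
    have hker : χ.ker = X2.subgroupOf X1 := by
      ext v
      rw [MonoidHom.mem_ker, Subgroup.mem_subgroupOf]
      change QuotientGroup.mk' L ⁅(v : G), t⁆ = 1 ↔ _
      rw [show (QuotientGroup.mk' L ⁅(v : G), t⁆ = 1) = (⁅(v : G), t⁆ ∈ L) from
        propext (QuotientGroup.eq_one_iff _)]
      constructor
      · intro h
        refine ⟨v.2.1, le_centMod.2 ?_ (Subgroup.mem_zpowers (v : G))⟩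
        refine comm_comm_le (le_centMod.1 (sup_le ?_ (Subgroup.zpowers_le.2 (mem_centMod.2 ?_))))
        · exact le_centMod.2 (comm_comm_le (le_centMod.1 (Subgroup.zpowers_le.2 v.2.2)))
        · rintro _ ⟨i, rfl⟩
          have h5 : (v : G) ^ i ∈ centMod L (Subgroup.zpowers t) :=
            zpow_mem (mem_centMod.2 (by
              rintro _ ⟨j, rfl⟩
              have h6 : t ∈ centMod L (Subgroup.zpowers (v : G)) → t ^ j ∈ centMod L (Subgroup.zpowers (v : G)) :=
                fun h => zpow_mem h j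
              have h7 : t ∈ centMod L (Subgroup.zpowers (v : G)) := by
                refine mem_centMod.2 ?_
                rintro _ ⟨k', rfl⟩
                have hv1 : (v : G) ∈ (Subgroup.centralizer
                    ({QuotientGroup.mk' L t} : Set (G ⧸ L))).comap (QuotientGroup.mk' L) := by
                  refine Subgroup.mem_centralizer_singleton_iff.2 ?_
                  refine commutatorElement_eq_one_iff_mul_comm.1 ?_
                  rw [← map_commutatorElement]
                  exact (QuotientGroup.eq_one_iff _).2 h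
                have hv2 := Subgroup.mem_centralizer_singleton_iff.1 (zpow_mem hv1 k')
                refine (QuotientGroup.eq_one_iff _).1 ?_
                show QuotientGroup.mk' L _ = 1
                rw [map_commutatorElement, commutatorElement_eq_one_iff_mul_comm]
                exact hv2.symm
              simpa [commutatorElement_inv] using
                inv_mem (mem_centMod.1 (h6 h7) _ (Subgroup.mem_zpowers (v : G))))) i
          simpa [commutatorElement_inv] using inv_mem (mem_centMod.1 h5 t (Subgroup.mem_zpowers t))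
      · intro h
        exact mem_centMod.1 h.2 t (Subgroup.mem_sup_right (Subgroup.mem_zpowers t))
    show X2.relIndex X1 ≤ 2
    rw [Subgroup.relIndex, ← hker, Subgroup.index_ker]
    classical
    calc Nat.card χ.range ≤ Nat.card ({1, QuotientGroup.mk' L x} : Set (G ⧸ L)) := by
          refine Nat.card_mono (Set.toFinite _) ?_
          rintro _ ⟨v, rfl⟩
          rcases hPx _ (hval v v.2) with h | h
          · exact Or.inl ((QuotientGroup.eq_one_iff _).2 h)
          · right
            have h1 := (QuotientGroup.eq_one_iff _).2 h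
            change QuotientGroup.mk' L (⁅(v : G), t⁆ * x) = 1 at h1
            have hx2 : x⁻¹ = x := inv_eq_of_mul_eq_one_right (by rw [← pow_two]; exact hUe.2 x (hP0 hxP).1)
            rw [map_mul, mul_eq_one_iff_eq_inv, ← map_inv, hx2] at h1
            exact h1
      _ ≤ 2 := by
          rw [Nat.card_coe_set_eq]
          exact (Set.ncard_insert_le _ _).trans (by rw [Set.ncard_singleton])
  have hRV : ¬ R ≤ C := fun hle => hRU <| Subgroup.le_centralizer_iff.1 <| hUgen _ fun y =>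
    Subgroup.le_centralizer_iff.1 <| by
      have := Fusion.cj_mono hle y
      rwa [Fusion.cj_of_normal, Fusion.cj_centralizer] at this
  have hRC : ∀ z ∈ R, ∀ w ∈ R, ∀ v ∈ V, ∃ p q : G,
      z * v * z⁻¹ = p * v ∧ w * v * w⁻¹ = q * v ∧ p * p = 1 ∧ p * q = q * p ∧ w * p * w⁻¹ = p ∧ z * q * z⁻¹ = q := by
    intro z hz w hw v hv
    have hp : ∀ t ∈ R, ⁅t, v⁆ ∈ U0 := fun t ht =>
      comm_comm_le hP0 (Subgroup.commutator_mem_commutator ht (hVU hv))
    refine ⟨⁅z, v⁆, ⁅w, v⁆, ?_, ?_, ?_, ?_, ?_, ?_⟩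
    · rw [commutatorElement_def]; group
    · rw [commutatorElement_def]; group
    · rw [← pow_two]; exact hUe.2 _ (hp z hz).1
    · exact (Subgroup.mem_centralizer_iff.1 (hUab (hp w hw).1) _ (hp z hz).1)
    · rw [Subgroup.mem_centralizer_iff.1 (hU0R (hp z hz)) w hw, mul_inv_cancel_right]
    · rw [Subgroup.mem_centralizer_iff.1 (hU0R (hp w hw)) z hz, mul_inv_cancel_right]
  have hEC := hE R (hRQ.trans hQS) (Subgroup.commutator_le.2 fun z hz w hw =>
    Subgroup.mem_centralizer_iff.2 fun v hv => by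
      obtain ⟨p, q, h1, h2, -, h4, h5, h6⟩ := hRC z hz w hw v hv
      have e1 : z * w * v * (z * w)⁻¹ = w * z * v * (w * z)⁻¹ := by
        rw [show z * w * v * (z * w)⁻¹ = z * (w * v * w⁻¹) * z⁻¹ by group, h2,
          show z * (q * v) * z⁻¹ = (z * q * z⁻¹) * (z * v * z⁻¹) by group, h6, h1,
          show w * z * v * (w * z)⁻¹ = w * (z * v * z⁻¹) * w⁻¹ by group, h1,
          show w * (p * v) * w⁻¹ = (w * p * w⁻¹) * (w * v * w⁻¹) by group, h5, h2, ← mul_assoc, ← mul_assoc, h4]
      have e2 := congrArg (fun y => (w * z)⁻¹ * y * (z * w)) e1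
      have e3 : (w * z)⁻¹ * (z * w) * v = v * ((w * z)⁻¹ * (z * w)) := by
        simpa [mul_assoc] using e2
      have e4 : ⁅z, w⁆ * v * ⁅z, w⁆⁻¹ = v := by
        have hz' := hRC z⁻¹ (inv_mem hz) w⁻¹ (inv_mem hw) v hv
        obtain ⟨p', q', h1', h2', -, h4', h5', h6'⟩ := hz'
        have f1 : z⁻¹ * w⁻¹ * v * (z⁻¹ * w⁻¹)⁻¹ = w⁻¹ * z⁻¹ * v * (w⁻¹ * z⁻¹)⁻¹ := by
          rw [show z⁻¹ * w⁻¹ * v * (z⁻¹ * w⁻¹)⁻¹ = z⁻¹ * (w⁻¹ * v * w⁻¹⁻¹) * z⁻¹⁻¹ by group, h2',
            show z⁻¹ * (q' * v) * z⁻¹⁻¹ = (z⁻¹ * q' * z⁻¹⁻¹) * (z⁻¹ * v * z⁻¹⁻¹) by group, h6', h1',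
            show w⁻¹ * z⁻¹ * v * (w⁻¹ * z⁻¹)⁻¹ = w⁻¹ * (z⁻¹ * v * z⁻¹⁻¹) * w⁻¹⁻¹ by group, h1',
            show w⁻¹ * (p' * v) * w⁻¹⁻¹ = (w⁻¹ * p' * w⁻¹⁻¹) * (w⁻¹ * v * w⁻¹⁻¹) by group, h5', h2',
            ← mul_assoc, ← mul_assoc, h4']
        rw [show ⁅z, w⁆ * v * ⁅z, w⁆⁻¹ = z * w * (z⁻¹ * w⁻¹ * v * (z⁻¹ * w⁻¹)⁻¹) * (z * w)⁻¹ by
          rw [commutatorElement_def]; group, f1]
        group
      calc v * ⁅z, w⁆ = ⁅z, w⁆ * v * ⁅z, w⁆⁻¹ * ⁅z, w⁆ := by rw [e4]
        _ = _ := by group)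
    (fun z hz => Subgroup.mem_centralizer_iff.2 fun v hv => by
      obtain ⟨p, q, h1, -, h3, -, h5, -⟩ := hRC z hz z hz v hv
      have e4 : z * z * v * (z * z)⁻¹ = v := by
        rw [show z * z * v * (z * z)⁻¹ = z * (z * v * z⁻¹) * z⁻¹ by group, h1,
          show z * (p * v) * z⁻¹ = (z * p * z⁻¹) * (z * v * z⁻¹) by group, h5, h1, ← mul_assoc, h3, one_mul]
      calc v * (z * z) = z * z * v * (z * z)⁻¹ * (z * z) := by rw [e4]
        _ = _ := by group) hRV
  have hv : (Subgroup.centralizer (R : Set G)).relIndex V ≤ C.relIndex R := by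
    have h1 := hdual ((R ⊓ C).relIndex R) (R ⊓ C) inf_le_left rfl
    rw [Subgroup.inf_relIndex_left] at h1
    have h2 : V ⊓ centMod L (R ⊓ C) = V := inf_eq_left.2 (le_centMod.2 (Subgroup.commutator_le.2
      fun v hv z hz => by
        rw [commutatorElement_eq_one_iff_mul_comm.2 (Subgroup.mem_centralizer_iff.1 hz.2 v hv)]
        exact one_mem _))
    rw [h2, Subgroup.inf_relIndex_left] at h1
    refine le_trans ?_ h1
    rw [← Subgroup.inf_relIndex_left, ← Subgroup.inf_relIndex_left V (centMod L R)]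
    exact relIndex_le_left fun v hv => ⟨hv.1, hU0R (hNL0 ⟨hVU hv.1, hv.2⟩)⟩
  have := Nat.pow_le_pow_left hv 2
  have := relIndex_pos C R
  nlinarith

end Cfsg.Agent.Solv.TwoFac
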