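import Cfsg.Agent.Lib.Solv.TwoFactor.Claim
import Cfsg.Prelude.Def_LocalEven

/-!
E-groups and the subgroup generated by those containing the Thompson subgroup, inside an ambient
group.
-/

set_option autoImplicit false
set_option linter.style.haveILetI false
set_option linter.unusedSectionVars false

open scoped commutatorElement
open Cfsg.Agent.Fusion (cj)

namespace Cfsg.Agent.Solv.TwoFac

universe u v

variable {G : Type u} [Group G]

/-- The condition in the definition of E-groups. -/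
def EFull (T V : Subgroup G) : Prop :=
  EC T V ∧ ∀ R : Subgroup G, R ≤ T → ⁅R, R⁆ ≤ Subgroup.centralizer (V : Set G) →
    (∀ x ∈ R, x * x ∈ Subgroup.centralizer (V : Set G)) → ¬ R ≤ Subgroup.centralizer (V : Set G) →
      (Subgroup.centralizer (V : Set G)).relIndex R < Nat.card ↥⁅V, R⁆

/-- E-groups, for subgroups of `G`. -/
def EG (U : Subgroup G) : Prop :=
  ∀ V : Subgroup G, V ≤ U → Cfsg.IsElementaryAbelian 2 V → U ≤ Subgroup.normalizer (V : Set G) →
    EFull U V → U ≤ Subgroup.centralizer (V : Set G)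

/-- The subgroup generated by the E-subgroups of `T` containing the Thompson subgroup. -/
def jh (T : Subgroup G) : Subgroup G :=
  sSup {U : Subgroup G | U ≤ T ∧ EG U ∧ Cfsg.thompsonSubgroupOf 2 T ≤ U}

/-- The arithmetic of the two conditions. -/
theorem cond_iff {vV a rR b D r K : ℕ} (ha : 0 < a) (hb : 0 < b) (hV : D * a = vV) (hR : r * b = rR) :
    (vV ^ 2 * b ^ 3 > rR ^ 3 * a ^ 2 ∧ K * b > rR) ↔ (r ^ 3 < D ^ 2 ∧ r < K) := by
  subst hV hR
  refine and_congr ?_ (Nat.mul_lt_mul_right hb)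
  rw [show (D * a) ^ 2 * b ^ 3 = D ^ 2 * (a ^ 2 * b ^ 3) by ring,
    show (r * b) ^ 3 * a ^ 2 = r ^ 3 * (a ^ 2 * b ^ 3) by ring, gt_iff_lt]
  exact Nat.mul_lt_mul_right (by positivity)

variable [Finite G]

/-- E-groups inside an ambient group. -/
theorem isEGroup_iff {T : Type v} [Group T] [Finite T] (f : T →* G) (hf : Function.Injective f) :
    Cfsg.IsEGroup T ↔ EG f.range := by
  have hel : ∀ V : Subgroup T, Cfsg.IsElementaryAbelian 2 V → Cfsg.IsElementaryAbelian 2 (V.map f) :=
    fun V hV => by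
      haveI := hV.1
      refine ⟨inferInstance, ?_⟩
      rintro _ ⟨a, ha, rfl⟩
      rw [← map_pow, hV.2 a ha, map_one]
  have hback : ∀ V : Subgroup G, Cfsg.IsElementaryAbelian 2 V →
      Cfsg.IsElementaryAbelian 2 (V.comap f) := fun V hV =>
    ⟨⟨⟨fun a b => Subtype.ext (hf (by
      rw [Subgroup.coe_mul, Subgroup.coe_mul, map_mul, map_mul]
      exact congrArg Subtype.val (hV.1.is_comm.comm ⟨_, a.2⟩ ⟨_, b.2⟩)))⟩⟩,
      fun a ha => hf (by rw [map_pow, map_one]; exact hV.2 _ ha)⟩
  have hcen : ∀ (V : Subgroup T) (x : T),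
      x ∈ Subgroup.centralizer (V : Set T) ↔ f x ∈ Subgroup.centralizer (V.map f : Set G) := fun V x => by
    rw [Subgroup.mem_centralizer_iff, Subgroup.mem_centralizer_iff]
    constructor
    · rintro h _ ⟨v, hv, rfl⟩
      rw [← map_mul, h v hv, map_mul]
    · intro h v hv
      exact hf (by rw [map_mul, map_mul]; exact h _ ⟨v, hv, rfl⟩)
  have hcard : ∀ R V : Subgroup T,
      Nat.card ↥(R ⊓ Subgroup.centralizer (V : Set T)) =
        Nat.card ↥(R.map f ⊓ Subgroup.centralizer (V.map f : Set G)) := fun R V => by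
    rw [← Subgroup.card_map_of_injective (f := f) hf]
    congr 2
    ext y
    constructor
    · rintro ⟨x, hx, rfl⟩
      exact ⟨⟨x, hx.1, rfl⟩, (hcen V x).1 hx.2⟩
    · rintro ⟨⟨x, hx, rfl⟩, hy⟩
      exact ⟨x, ⟨hx, (hcen V x).2 hy⟩, rfl⟩
  -- the condition
  have hcond : ∀ V : Subgroup T,
      (∀ R : Subgroup T,
        ⁅R, R⁆ ≤ Subgroup.centralizer (V : Set T) → (∀ r ∈ R, r ^ 2 ∈ Subgroup.centralizer (V : Set T)) →
        ¬ R ≤ Subgroup.centralizer (V : Set T) →
          (Nat.card V) ^ 2 * (Nat.card ↥(R ⊓ Subgroup.centralizer (V : Set T))) ^ 3 >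
              (Nat.card R) ^ 3 * (Nat.card ↥(V ⊓ Subgroup.centralizer (R : Set T))) ^ 2 ∧
            Nat.card ↥⁅V, R⁆ * Nat.card ↥(R ⊓ Subgroup.centralizer (V : Set T)) > Nat.card R) ↔
        EFull f.range (V.map f) := by
    intro V
    have key : ∀ R : Subgroup T,
        (((Nat.card V) ^ 2 * (Nat.card ↥(R ⊓ Subgroup.centralizer (V : Set T))) ^ 3 >
              (Nat.card R) ^ 3 * (Nat.card ↥(V ⊓ Subgroup.centralizer (R : Set T))) ^ 2 ∧
            Nat.card ↥⁅V, R⁆ * Nat.card ↥(R ⊓ Subgroup.centralizer (V : Set T)) > Nat.card R) ↔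
          ((Subgroup.centralizer (V.map f : Set G)).relIndex (R.map f) ^ 3 <
              (Subgroup.centralizer (R.map f : Set G)).relIndex (V.map f) ^ 2 ∧
            (Subgroup.centralizer (V.map f : Set G)).relIndex (R.map f) < Nat.card ↥⁅V.map f, R.map f⁆)) := by
      intro R
      rw [hcard R V, hcard V R, ← Subgroup.card_map_of_injective (K := V) (f := f) hf,
        ← Subgroup.card_map_of_injective (K := R) (f := f) hf,
        ← Subgroup.card_map_of_injective (K := ⁅V, R⁆) (f := f) hf, Subgroup.map_commutator]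
      exact cond_iff Nat.card_pos Nat.card_pos relIndex_mul_card relIndex_mul_card
    have hhyp : ∀ R : Subgroup T,
        (⁅R, R⁆ ≤ Subgroup.centralizer (V : Set T) ↔
            ⁅R.map f, R.map f⁆ ≤ Subgroup.centralizer (V.map f : Set G)) ∧
          ((∀ r ∈ R, r ^ 2 ∈ Subgroup.centralizer (V : Set T)) ↔
            ∀ x ∈ R.map f, x * x ∈ Subgroup.centralizer (V.map f : Set G)) ∧
          (R ≤ Subgroup.centralizer (V : Set T) ↔ R.map f ≤ Subgroup.centralizer (V.map f : Set G)) := by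
      intro R
      refine ⟨?_, ⟨?_, fun h r hr => ?_⟩, ?_⟩
      · rw [← Subgroup.map_commutator, Subgroup.map_le_iff_le_comap]
        exact ⟨fun h x hx => (hcen V x).1 (h hx), fun h x hx => (hcen V x).2 (h hx)⟩
      · rintro h _ ⟨r, hr, rfl⟩
        rw [← map_mul, ← pow_two]
        exact (hcen V _).1 (h r hr)
      · rw [hcen, pow_two, map_mul]
        exact h _ ⟨r, hr, rfl⟩
      · rw [Subgroup.map_le_iff_le_comap]
        exact ⟨fun h x hx => (hcen V x).1 (h hx), fun h x hx => (hcen V x).2 (h hx)⟩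
    constructor
    · intro h
      refine ⟨fun R hR h1 h2 h3 => ?_, fun R hR h1 h2 h3 => ?_⟩
      all_goals
        obtain ⟨e1, e2, e3⟩ := hhyp (R.comap f)
        have hRe : (R.comap f).map f = R := Subgroup.map_comap_eq_self hR
        have hh := (key (R.comap f)).1 (h _ (e1.2 (by rwa [hRe])) (e2.2 (by rwa [hRe]))
          (fun hle => h3 (by have := e3.1 hle; rwa [hRe] at this)))
        rw [hRe] at hh
      · exact hh.1
      · exact hh.2
    · intro h R h1 h2 h3
      obtain ⟨e1, e2, e3⟩ := hhyp R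
      exact (key R).2 ⟨h.1 _ (MonoidHom.range_eq_map f ▸ Subgroup.map_mono le_top) (e1.1 h1) (e2.1 h2)
          (fun hle => h3 (e3.2 hle)),
        h.2 _ (MonoidHom.range_eq_map f ▸ Subgroup.map_mono le_top) (e1.1 h1) (e2.1 h2)
          (fun hle => h3 (e3.2 hle))⟩
  have hnorm : ∀ V : Subgroup T, V.Normal ↔ f.range ≤ Subgroup.normalizer (V.map f : Set G) := by
    intro V
    constructor
    · rintro h _ ⟨t, rfl⟩
      exact Subgroup.le_normalizer_map f ⟨t, Subgroup.normalizer_eq_top (H := V) ▸ Subgroup.mem_top t, rfl⟩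
    · intro h
      refine ⟨fun v hv t => ?_⟩
      obtain ⟨w, hw, hwe⟩ := (Subgroup.mem_normalizer_iff.1 (h ⟨t, rfl⟩) (f v)).1 ⟨v, hv, rfl⟩
      rwa [← hf (show f w = f (t * v * t⁻¹) by rw [hwe, map_mul, map_mul, map_inv])]
  constructor
  · intro hT V hV hVe hVn hE
    have hVe' : (V.comap f).map f = V := Subgroup.map_comap_eq_self hV
    rw [← hVe'] at hVn hE ⊢
    have hres := hT (V.comap f) ((hnorm _).2 hVn) (hback V hVe) ((hcond _).2 hE)
    rintro _ ⟨t, rfl⟩
    refine (hcen _ t).1 (Subgroup.mem_centralizer_iff.2 fun v hv => ?_)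
    exact (Subgroup.mem_center_iff.1 (hres hv) t).symm
  · intro hG V hVn hVe hE
    have hres := hG (V.map f) (MonoidHom.range_eq_map f ▸ Subgroup.map_mono le_top) (hel V hVe)
      ((hnorm V).1 hVn) ((hcond V).1 hE)
    intro v hv
    exact Subgroup.mem_center_iff.2 fun t =>
      (Subgroup.mem_centralizer_iff.1 ((hcen V t).2 (hres ⟨t, rfl⟩)) v hv).symm

theorem isEGroup_sub_iff (U : Subgroup G) : Cfsg.IsEGroup U ↔ EG U := by
  rw [isEGroup_iff U.subtype U.subtype_injective, Subgroup.range_subtype]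

theorem eg_map {H : Type v} [Group H] [Finite H] (f : H →* G) (hf : Function.Injective f) (U : Subgroup H) :
    EG U ↔ EG (U.map f) := by
  rw [← isEGroup_sub_iff, isEGroup_iff (f.comp U.subtype) (hf.comp U.subtype_injective),
    MonoidHom.range_comp, Subgroup.range_subtype]

theorem eg_cj {U : Subgroup G} (h : EG U) (g : G) : EG (cj U g) :=
  (eg_map (MulAut.conj g).toMonoidHom (MulAut.conj g).injective U).1 h

variable [Fact (Nat.Prime 2)]

/-- The Thompson subgroup is an E-group. -/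
theorem eg_thompson {T : Subgroup G} : EG (Cfsg.thompsonSubgroupOf 2 T) := by
  intro V hV hVe _ hE
  have h1 := (basic hV hVe hE.1).1
  have h2 : Cfsg.thompsonSubgroupOf 2 (Cfsg.thompsonSubgroupOf 2 T) = Cfsg.thompsonSubgroupOf 2 T := by
    rw [J_def (Cfsg.thompsonSubgroupOf 2 T), J_def T]
    exact congrArg sSup (Fusion.maxIn_eq_of_le (ok := fun A : Subgroup G => Cfsg.IsElementaryAbelian 2 A)
      (Fusion.replFamily_elementary 2) (JComp.J_eq T ▸ JComp.J_le T) fun A hA =>
        JComp.J_eq T ▸ JComp.mx_le_J hA)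
  rwa [h2] at h1

theorem J_le_jh (T : Subgroup G) : Cfsg.thompsonSubgroupOf 2 T ≤ jh T :=
  le_sSup ⟨JComp.J_le T, eg_thompson, le_rfl⟩

theorem jh_le (T : Subgroup G) : jh T ≤ T := sSup_le fun _ h => h.1

theorem jh_map {H : Type u} [Group H] [Finite H] (f : H →* G) (hf : Function.Injective f) (T : Subgroup H) :
    (jh T).map f = jh (T.map f) := by
  rw [jh, jh, sSup_eq_iSup, Subgroup.map_iSup]
  simp only [Subgroup.map_iSup]
  refine le_antisymm (iSup₂_le fun U hU => le_sSup ?_) (sSup_le fun U hU => ?_)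
  · refine ⟨Subgroup.map_mono hU.1, (eg_map f hf U).1 hU.2.1, ?_⟩
    rw [← jElem_map f hf]
    exact Subgroup.map_mono hU.2.2
  · have hUe : (U.comap f).map f = U :=
      Subgroup.map_comap_eq_self (hU.1.trans (MonoidHom.range_eq_map f ▸ Subgroup.map_mono le_top))
    refine le_iSup₂_of_le (U.comap f) ⟨?_, (eg_map f hf _).2 (hUe.symm ▸ hU.2.1), ?_⟩ hUe.ge
    · exact (Subgroup.comap_mono hU.1).trans (Subgroup.comap_map_eq_self_of_injective hf T).le
    · rw [← Subgroup.map_le_iff_le_comap, jElem_map f hf]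
      exact hU.2.2

/-- The subgroup of the statement. -/
theorem jh_eq (S : Subgroup G) : (Cfsg.jHat ↥S).map S.subtype = jh S := by
  have h : Cfsg.jHat ↥S = jh (⊤ : Subgroup ↥S) := by
    have hJ : Cfsg.thompsonSubgroupOf 2 (⊤ : Subgroup ↥S) = Cfsg.thompsonSubgroup 2 ↥S := by
      refine Subgroup.map_injective S.subtype_injective ?_
      rw [jElem_map S.subtype S.subtype_injective, ← MonoidHom.range_eq_map, Subgroup.range_subtype]
      rfl
    rw [Cfsg.jHat, jh, hJ]
    congr 1
    ext U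
    exact ⟨fun h => ⟨le_top, (isEGroup_sub_iff U).1 h.1, h.2⟩, fun h => ⟨(isEGroup_sub_iff U).2 h.2.1, h.2.2⟩⟩
  rw [h, jh_map S.subtype S.subtype_injective, ← MonoidHom.range_eq_map, Subgroup.range_subtype]

end Cfsg.Agent.Solv.TwoFac
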