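import Cfsg.Agent.Lib.Solv.OffenderGain.Main
import Cfsg.Agent.Lib.Small.SuzukiSylowFacts
import Cfsg.Agent.Lib.Classical.Dickson.Solvable
import Cfsg.Agent.Lib.Lead.SFourSection
import Cfsg.Agent.Lib.Lie.SupSolvable
import Cfsg.Agent.Lib.Fusion.Cores

/-!
Composition factors among Suzuki groups and `PSL₂(3^odd)`: inheritance, and normalisers of Sylow
2-subgroups.
-/

set_option autoImplicit false
set_option linter.style.haveILetI false

namespace Cfsg.Agent.Solv.TwoFac

universe u

/-- The hypothesis on the composition factors. -/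
abbrev KG (G : Type u) [Group G] : Prop :=
  Cfsg.IsCompositionKGroupWith Cfsg.IsSuzukiOrPSL2OddPowerThree G

theorem pred_congr {X Y : Type u} [Group X] [Group Y] (e : X ≃* Y)
    (h : Cfsg.IsSuzukiOrPSL2OddPowerThree X) : Cfsg.IsSuzukiOrPSL2OddPowerThree Y := by
  rcases h with ⟨F, i1, i2, m, hm, hF, ⟨f⟩⟩ | ⟨F, i1, i2, n, hF, ⟨f⟩⟩
  · exact Or.inl ⟨F, i1, i2, m, hm, hF, ⟨e.symm.trans f⟩⟩
  · exact Or.inr ⟨F, i1, i2, n, hF, ⟨e.symm.trans f⟩⟩

theorem simple_noncomm_congr {X Y : Type u} [Group X] [Group Y] (e : X ≃* Y) [IsSimpleGroup Y]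
    (h : ¬ IsMulCommutative Y) : IsSimpleGroup X ∧ ¬ IsMulCommutative X :=
  ⟨e.isSimpleGroup, fun hX => h ⟨⟨fun x y => e.symm.injective (by
    rw [map_mul, map_mul]; exact hX.is_comm.comm _ _)⟩⟩⟩

/-- The hypothesis, phrased with surjections. -/
theorem pred_of_surjective {G Y : Type u} [Group G] [Group Y] (hK : KG G) {H : Subgroup G}
    (hH : H.IsSubnormal) (f : H →* Y) (hf : Function.Surjective f) [IsSimpleGroup Y]
    (hc : ¬ IsMulCommutative Y) : Cfsg.IsSuzukiOrPSL2OddPowerThree Y := by
  let e := QuotientGroup.quotientKerEquivOfSurjective f hf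
  obtain ⟨h1, h2⟩ := simple_noncomm_congr e hc
  exact pred_congr e (hK H hH f.ker h1 h2)

theorem kg_of_surjective {G Y : Type u} [Group G] [Group Y] (f : G →* Y) (hf : Function.Surjective f)
    (hK : KG G) : KG Y := by
  intro H hH N _ hs hc
  haveI := hs
  let g : ↥(H.comap f) →* H := (f.comp (H.comap f).subtype).codRestrict H fun x => x.2
  refine pred_of_surjective hK (hH.comap f) ((QuotientGroup.mk' N).comp g) ?_ hc
  refine (QuotientGroup.mk'_surjective N).comp ?_
  rintro ⟨y, hy⟩
  obtain ⟨x, rfl⟩ := hf y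
  exact ⟨⟨x, hy⟩, rfl⟩

theorem kg_congr {G Y : Type u} [Group G] [Group Y] (e : G ≃* Y) (hK : KG G) : KG Y :=
  kg_of_surjective e.toMonoidHom e.surjective hK

theorem kg_subnormal {G : Type u} [Group G] {M : Subgroup G} (hM : M.IsSubnormal) (hK : KG G) : KG M := by
  intro H hH N _ hs hc
  haveI := hs
  let e := H.equivMapOfInjective M.subtype M.subtype_injective
  exact pred_of_surjective hK (hH.trans' hM) ((QuotientGroup.mk' N).comp e.symm.toMonoidHom)
    ((QuotientGroup.mk'_surjective N).comp e.symm.surjective) hc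

theorem kg_of_solvable {G : Type u} [Group G] (hG : Group.IsSolvable G) : KG G := by
  intro H hH N _ hs hc
  haveI := hs
  haveI : Group.IsSolvable (H ⧸ N) := Group.isSolvable_of_surjective (QuotientGroup.mk'_surjective N)
  exact absurd ⟨⟨(IsSimpleGroup.comm_iff_isSolvable).2 inferInstance⟩⟩ hc

theorem kg_extension {G : Type u} [Group G] (M : Subgroup G) [M.Normal] (hM : KG M) (hQ : KG (G ⧸ M)) :
    KG G := by
  intro H hH N _ hs hc
  haveI := hs
  let ψ := QuotientGroup.mk' N
  let MH := M.subgroupOf H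
  haveI : MH.Normal := inferInstance
  haveI : (MH.map ψ).Normal := Subgroup.Normal.map inferInstance ψ (QuotientGroup.mk'_surjective N)
  rcases IsSimpleGroup.eq_bot_or_eq_top_of_normal (MH.map ψ) inferInstance with h | h
  · -- a section of the quotient
    let π : H →* ↥(H.map (QuotientGroup.mk' M)) := (QuotientGroup.mk' M).subgroupMap H
    have hπ : Function.Surjective π := MonoidHom.subgroupMap_surjective _ H
    have hker : π.ker ≤ ψ.ker := by
      intro x hx
      have hxM : (x : G) ∈ M := (QuotientGroup.eq_one_iff _).1 (congrArg Subtype.val (MonoidHom.mem_ker.1 hx))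
      have h1 : ψ x ∈ MH.map ψ := ⟨x, hxM, rfl⟩
      rw [h, Subgroup.mem_bot] at h1
      exact h1
    let χ := π.liftOfSurjective hπ ⟨ψ, hker⟩
    have hχ : Function.Surjective χ := fun y => by
      obtain ⟨x, rfl⟩ := QuotientGroup.mk'_surjective N y
      exact ⟨π x, π.liftOfRightInverse_comp_apply _ _ ⟨ψ, hker⟩ x⟩
    exact pred_of_surjective hQ (hH.map (QuotientGroup.mk'_surjective M)) χ hχ hc
  · -- a section of `M`
    let g : ↥(H.subgroupOf M) →* H ⧸ N := ψ.comp
      ((M.subtype.comp (H.subgroupOf M).subtype).codRestrict H fun x => x.2)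
    refine pred_of_surjective hM (hH.subgroupOf) g ?_ hc
    intro y
    obtain ⟨x, hx, rfl⟩ : y ∈ MH.map ψ := h ▸ Subgroup.mem_top y
    exact ⟨⟨⟨x, hx⟩, x.2⟩, rfl⟩

theorem kg_of_normal_quotient {G : Type u} [Group G] {Y : Type u} [Group Y] (M : Subgroup G) [M.Normal]
    (hM : KG M) (f : G →* Y) (hf : Function.Surjective f) (hker : f.ker = M) (hY : KG Y) : KG G :=
  kg_extension M hM (kg_congr
    ((QuotientGroup.quotientKerEquivOfSurjective f hf).symm.trans (QuotientGroup.quotientMulEquivOfEq hker)) hY)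

/-! ### Normalisers of Sylow 2-subgroups -/

theorem solvable_of_card_le_six {G : Type*} [Group G] [Finite G] (h : Nat.card G ≤ 6) :
    Group.IsSolvable G := by
  have hpos : 0 < Nat.card G := Nat.card_pos
  obtain h1 | h1 | h1 | h1 | h1 | h1 : Nat.card G = 1 ∨ Nat.card G = 2 ∨ Nat.card G = 3 ∨
      Nat.card G = 4 ∨ Nat.card G = 5 ∨ Nat.card G = 6 := by omega
  · exact Classical.Dickson.solvable_of_two_three (a := 0) (b := 0) (by rw [h1]; norm_num)
  · exact Classical.Dickson.solvable_of_two_three (a := 1) (b := 0) (by rw [h1]; norm_num)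
  · exact Classical.Dickson.solvable_of_two_three (a := 0) (b := 1) (by rw [h1]; norm_num)
  · exact Classical.Dickson.solvable_of_two_three (a := 2) (b := 0) (by rw [h1]; norm_num)
  · haveI : Fact (Nat.Prime 5) := ⟨Nat.prime_five⟩
    haveI := isCyclic_of_prime_card h1
    letI := IsCyclic.commGroup (α := G)
    infer_instance
  · exact Classical.Dickson.solvable_of_two_three (a := 1) (b := 1) (by rw [h1]; norm_num)

theorem solvable_normalizer_sz {F : Type} [Field F] [Fintype F] {m : ℕ}
    (hF : Fintype.card F = 2 ^ (2 * m + 1)) (hm : 1 ≤ m) (P : Sylow 2 (Cfsg.Sz F m)) :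
    Group.IsSolvable ↥(Subgroup.normalizer ((P : Subgroup (Cfsg.Sz F m)) : Set (Cfsg.Sz F m))) := by
  classical
  open Cfsg.Agent.Lie.Suzuki in
  obtain ⟨g, hg⟩ := Small.SuzukiFacts.exists_conj_uSub hF hm P
  open Cfsg.Agent.Lie.Suzuki in
  have hU : Group.IsSolvable ↥(uSub (m := m) hF) := by
    haveI : Fact (Nat.Prime 2) := ⟨Nat.prime_two⟩
    haveI := (uSub_isPGroup (m := m) hF).isNilpotent
    infer_instance
  open Cfsg.Agent.Lie.Suzuki in
  have hB : Group.IsSolvable
      ↥(Subgroup.normalizer ((uSub (m := m) hF : Subgroup _) : Set (Cfsg.Sz F m))) := by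
    set U := uSub (m := m) hF
    set N := Subgroup.normalizer (U : Set (Cfsg.Sz F m))
    set T : Subgroup (Cfsg.Sz F m) := (dS (m := m) hF).range
    haveI hTs : Group.IsSolvable ↥T := Group.isSolvable_of_surjective (dS hF).rangeRestrict_surjective
    have hTN : T ≤ N := by
      rintro _ ⟨k, rfl⟩
      rw [show N = _ from normalizer_uSub hF hm]
      exact dM_inf k
    have hs := Cfsg.Agent.Lie.isSolvable_sup_of_le_normalizer hU hTs hTN
    suffices h : U ⊔ T = N by rwa [h] at hs
    refine le_antisymm (sup_le Subgroup.le_normalizer hTN) fun x hx => ?_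
    rw [show N = _ from normalizer_uSub hF hm] at hx
    obtain ⟨a, b, k, rfl⟩ := sz_fix hF hm x hx
    exact mul_mem (Subgroup.mem_sup_left ⟨a, b, rfl⟩) (Subgroup.mem_sup_right ⟨k, rfl⟩)
  haveI := hB
  rw [hg, ← Subgroup.map_equiv_normalizer_eq]
  exact Group.isSolvable_of_surjective (MonoidHom.subgroupMap_surjective _ _)

theorem solvable_normalizer_psl {F : Type} [Field F] [Fintype F] {n : ℕ}
    (hF : Fintype.card F = 3 ^ (2 * n + 1))
    (P : Sylow 2 (Matrix.ProjectiveSpecialLinearGroup (Fin 2) F)) :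
    Group.IsSolvable ↥(Subgroup.normalizer
      ((P : Subgroup (Matrix.ProjectiveSpecialLinearGroup (Fin 2) F)) :
        Set (Matrix.ProjectiveSpecialLinearGroup (Fin 2) F))) := by
  haveI : Fact (Nat.Prime 2) := ⟨Nat.prime_two⟩
  set X := Matrix.ProjectiveSpecialLinearGroup (Fin 2) F
  have h2 : (2 : F) ≠ 0 := OffGain.two_ne hF
  have hc := Classical.Dickson.card_P2 (F := F)
  rw [Classical.Dickson.two_dvd_pred h2, hF] at hc
  -- the Sylow subgroup has order four
  have hP4 : Nat.card (P : Subgroup X) = 4 := by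
    have hq : (3 ^ (2 * n + 1)) ^ 2 % 16 = 9 := by
      rw [← pow_mul, show (2 * n + 1) * 2 = 4 * n + 2 by ring, pow_add, pow_mul, Nat.mul_mod, Nat.pow_mod]
      norm_num
    obtain ⟨k, hk⟩ := IsPGroup.iff_card.1 P.2
    have hdiv : 2 ^ k ∣ Nat.card X := hk ▸ Subgroup.card_subgroup_dvd_card _
    have hmul := (P : Subgroup X).card_mul_index
    rw [hk] at hmul
    have hno := P.not_dvd_index
    set q := 3 ^ (2 * n + 1) with hqd
    have hc : Nat.card X * 2 = q * (q ^ 2 - 1) := hc
    have hqodd : q % 2 = 1 := by rw [hqd, Nat.pow_mod]; norm_num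
    obtain ⟨w, hw⟩ : ∃ w, q ^ 2 = 16 * w + 9 := ⟨q ^ 2 / 16, by omega⟩
    have hX : Nat.card X = 4 * (q * (2 * w + 1)) := by
      have : q * (q ^ 2 - 1) = 8 * (q * (2 * w + 1)) := by
        rw [hw, show 16 * w + 9 - 1 = 8 * (2 * w + 1) by omega]; ring
      omega
    have hodd : ¬ 2 ∣ q * (2 * w + 1) := by
      rw [Nat.dvd_iff_mod_eq_zero, Nat.mul_mod, hqodd]; omega
    rw [hk]
    rcases Nat.lt_trichotomy k 2 with hlt | rfl | hgt
    · exfalso
      have hm2 : 2 ^ k * (P : Subgroup X).index = 4 * (q * (2 * w + 1)) := hmul.trans hX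
      interval_cases k <;> omega
    · rfl
    · exfalso
      have h8 : 2 ^ 3 ∣ Nat.card X := (pow_dvd_pow 2 hgt).trans hdiv
      rw [hX] at h8
      exact hodd (by omega)
  set N := Subgroup.normalizer ((P : Subgroup X) : Set X)
  set P' := (P : Subgroup X).subgroupOf N
  haveI : P'.Normal := Subgroup.normal_subgroupOf_of_le_normalizer le_rfl
  let ρ : N →* MulAut (P : Subgroup X) := Subgroup.normalizerMonoidHom _
  haveI : Finite (MulAut (P : Subgroup X)) := Finite.of_injective (fun φ => φ.toEquiv)
    fun a b h => MulEquiv.toEquiv_injective h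
  haveI hr : Group.IsSolvable ρ.range := solvable_of_card_le_six
    ((Subgroup.card_le_card_group _).trans (Cfsg.Agent.SFour.card_mulAut_le hP4))
  -- the centraliser
  set C := ρ.ker
  set P'' := P'.subgroupOf C
  have hPC : P' ≤ C := by
    intro x hx
    rw [MonoidHom.mem_ker]
    refine MulEquiv.ext fun y => Subtype.ext ?_
    haveI : IsMulCommutative (P : Subgroup X) :=
      IsPGroup.isMulCommutative_of_card_eq_prime_sq (p := 2) hP4
    have := congrArg Subtype.val ((inferInstance : IsMulCommutative (P : Subgroup X)).is_comm.comm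
      ⟨(x : X), hx⟩ y)
    show (x : X) * y * (x : X)⁻¹ = y
    rw [show (x : X) * y = y * x from this, mul_inv_cancel_right]
  haveI : P''.Normal := inferInstance
  have hcard : Nat.card P'' = 4 := by
    rw [Nat.card_congr (Subgroup.subgroupOfEquivOfLe hPC).toEquiv,
      Nat.card_congr (Subgroup.subgroupOfEquivOfLe (Subgroup.le_normalizer (H := (P : Subgroup X)))).toEquiv]
    exact hP4
  have hodd : ¬ 2 ∣ P''.index := by
    intro h
    have h1 : P''.index ∣ P'.index := by
      have := Subgroup.relIndex_dvd_index_of_normal P' C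
      exact this
    exact P.not_dvd_index ((h.trans h1).trans (Subgroup.relIndex_dvd_index_of_le Subgroup.le_normalizer))
  obtain ⟨O, hO⟩ := Subgroup.exists_right_complement'_of_coprime (N := P'') (by
    rw [hcard, show 4 = 2 ^ 2 by norm_num]
    exact Nat.Coprime.pow_left 2 ((Nat.Prime.coprime_iff_not_dvd Nat.prime_two).2 hodd))
  have hOodd : Odd (Nat.card O) := by
    rw [Nat.odd_iff]
    have h1 := hO.symm.index_eq_card
    rw [h1] at hodd
    omega
  let O₁ : Subgroup X := (O.map C.subtype).map N.subtype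
  have hO1 : Nat.card O₁ = Nat.card O := by
    rw [Subgroup.card_map_of_injective N.subtype_injective, Subgroup.card_map_of_injective C.subtype_injective]
  haveI hOs : Group.IsSolvable O := by
    rcases Classical.Dickson.solvable_or O₁ with h | ⟨-, ⟨e⟩⟩ | ⟨K, m, hm, hKm, -, h⟩
    · haveI := h
      let f : O →* O₁ := ((O.map C.subtype).equivMapOfInjective N.subtype N.subtype_injective).toMonoidHom.comp
        (O.equivMapOfInjective C.subtype C.subtype_injective).toMonoidHom
      exact Group.isSolvable_of_isSolvable_injective (f := f)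
        (((O.map C.subtype).equivMapOfInjective N.subtype N.subtype_injective).injective.comp
        (O.equivMapOfInjective C.subtype C.subtype_injective).injective)
    · exfalso
      rw [← hO1, Nat.card_congr e.toEquiv, nat_card_alternatingGroup, Nat.card_fin] at hOodd
      exact Nat.not_odd_iff_even.2 (by decide) hOodd
    · exfalso
      obtain ⟨c, hc'⟩ : Odd (Nat.card K) := by
        rw [Nat.odd_iff]
        have hq : Fintype.card F % 2 = 1 := by rw [hF, Nat.pow_mod]; norm_num
        rw [← hKm, Nat.pow_mod] at hq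
        by_contra hne
        rw [show Nat.card K % 2 = 0 by omega, zero_pow (by omega)] at hq
        simp at hq
      have h8 : 4 ∣ Nat.card K * (Nat.card K ^ 2 - 1) := by
        refine Dvd.dvd.mul_left ⟨c * (c + 1), ?_⟩ _
        have : (2 * c + 1) ^ 2 = 4 * (c * (c + 1)) + 1 := by ring
        rw [hc', this, Nat.add_sub_cancel]
      rw [← hO1, Nat.odd_iff] at hOodd
      change Nat.card O₁ = _ ∨ (2 : F) ≠ 0 ∧ 2 * Nat.card O₁ = _ at h
      rcases h with h | ⟨-, h⟩ <;> omega
  haveI : Group.IsSolvable P'' := by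
    haveI := (IsPGroup.of_card (p := 2) (n := 2) hcard).isNilpotent
    infer_instance
  haveI hCs : Group.IsSolvable C := by
    have hs := Cfsg.Agent.Lie.isSolvable_sup_of_le_normalizer (N := P'') (H := O) inferInstance hOs
      (by rw [Subgroup.normalizer_eq_top]; exact le_top)
    rw [hO.sup_eq_top] at hs
    exact Group.isSolvable_of_surjective (f := (Subgroup.topEquiv (G := ↥C)).toMonoidHom) (Subgroup.topEquiv (G := ↥C)).surjective
  exact Group.isSolvable_of_ker_le_range C.subtype ρ.rangeRestrict fun x hx =>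
    ⟨⟨x, by rwa [MonoidHom.ker_rangeRestrict] at hx⟩, rfl⟩

/-- Normalisers of Sylow 2-subgroups are solvable. -/
theorem solvable_normalizer_sylow : ∀ (n : ℕ) {N : Type u} [Group N] [Finite N], Nat.card N = n → KG N →
    ∀ P : Sylow 2 N, Group.IsSolvable ↥(Subgroup.normalizer ((P : Subgroup N) : Set N)) := by
  intro n
  induction n using Nat.strong_induction_on with
  | _ n ih =>
  intro N _ _ hn hK P
  haveI : Fact (Nat.Prime 2) := ⟨Nat.prime_two⟩
  by_cases hs : IsSimpleGroup N
  · by_cases hc : IsMulCommutative N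
    · letI : CommGroup N := { (inferInstance : Group N) with mul_comm := fun x y => hc.is_comm.comm x y }
      infer_instance
    have hp : Cfsg.IsSuzukiOrPSL2OddPowerThree N :=
      pred_of_surjective hK Subgroup.IsSubnormal.top (Subgroup.topEquiv (G := N)).toMonoidHom
        (Subgroup.topEquiv (G := N)).surjective hc
    rcases hp with ⟨F, i1, i2, m, hm, hF, ⟨e⟩⟩ | ⟨F, i1, i2, m, hF, ⟨e⟩⟩
    · obtain ⟨e'⟩ := Cfsg.Agent.Lie.Suzuki.lie_sz_equiv hF hm
      let f := e.trans e'.symm
      haveI : Group.IsSolvable ↥(Subgroup.normalizer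
          (((P : Subgroup N).map f.toMonoidHom : Subgroup (Cfsg.Sz F m)) : Set (Cfsg.Sz F m))) :=
        solvable_normalizer_sz hF hm (P.mapSurjective (f := f.toMonoidHom) f.surjective)
      refine Group.isSolvable_of_isSolvable_injective
        (f := (Subgroup.inclusion (Subgroup.le_normalizer_map (H := (P : Subgroup N)) f.toMonoidHom)).comp
          (f.toMonoidHom.subgroupMap (Subgroup.normalizer ((P : Subgroup N) : Set N)))) ?_
      exact fun x y h => Subtype.ext (f.injective (congrArg Subtype.val h :))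
    · skip
      haveI : Group.IsSolvable ↥(Subgroup.normalizer
          (((P : Subgroup N).map e.toMonoidHom : Subgroup (Matrix.ProjectiveSpecialLinearGroup (Fin 2) F)) : Set (Matrix.ProjectiveSpecialLinearGroup (Fin 2) F))) :=
        solvable_normalizer_psl hF (P.mapSurjective (f := e.toMonoidHom) e.surjective)
      refine Group.isSolvable_of_isSolvable_injective
        (f := (Subgroup.inclusion (Subgroup.le_normalizer_map (H := (P : Subgroup N)) e.toMonoidHom)).comp
          (e.toMonoidHom.subgroupMap (Subgroup.normalizer ((P : Subgroup N) : Set N)))) ?_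
      exact fun x y h => Subtype.ext (e.injective (congrArg Subtype.val h :))
  · rcases subsingleton_or_nontrivial N with h | h
    · infer_instance
    obtain ⟨M, hM, hM1, hM2⟩ : ∃ M : Subgroup N, M.Normal ∧ M ≠ ⊥ ∧ M ≠ ⊤ := by
      by_contra hno
      push Not at hno
      exact hs ⟨fun M hM => or_iff_not_imp_left.2 (hno M hM)⟩
    haveI := hM
    set R := Subgroup.normalizer ((P : Subgroup N) : Set N)
    have hq : Nat.card (N ⧸ M) < n := by
      have h1 := M.card_mul_index
      have h2 := Subgroup.one_lt_card_iff_ne_bot M |>.2 hM1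
      have h3 : 0 < M.index := Nat.pos_of_ne_zero Subgroup.index_ne_zero_of_finite
      rw [← M.index_eq_card]
      nlinarith
    have hm : Nat.card M < n := by
      refine hn ▸ lt_of_le_of_ne (Subgroup.card_le_card_group M) fun e => hM2 ?_
      exact Subgroup.eq_top_of_card_eq M e
    let P' := P.mapSurjective (f := QuotientGroup.mk' M) (QuotientGroup.mk'_surjective M)
    haveI hQ := ih _ hq rfl (kg_of_surjective (QuotientGroup.mk' M) (QuotientGroup.mk'_surjective M) hK) P'
    haveI hMn : (M.subgroupOf ((P : Subgroup N) ⊔ M)).Normal := inferInstance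
    obtain ⟨T, hT0⟩ := ((Fusion.sylIn_top P).inf_normal (le_top : M ≤ ⊤)
      (by rw [Subgroup.normalizer_eq_top])).exists_sylow_subgroupOf
    have hT : (T : Subgroup M) = (P : Subgroup N).subgroupOf M := hT0.trans (Subgroup.inf_subgroupOf_right _ _)
    haveI hT' := ih _ hm rfl (kg_subnormal hM.isSubnormal hK) T
    let g : R →* N ⧸ M := (QuotientGroup.mk' M).comp R.subtype
    haveI : Group.IsSolvable g.range := by
      refine Group.isSolvable_of_isSolvable_injective (f := Subgroup.inclusion ?_)
        (Subgroup.inclusion_injective (K := Subgroup.normalizer ((P' : Subgroup (N ⧸ M)) : Set (N ⧸ M))) ?_)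
      all_goals
        rintro _ ⟨x, rfl⟩
        exact Subgroup.le_normalizer_map _ ⟨x, x.2, rfl⟩
    haveI : Group.IsSolvable g.ker := by
      let f : g.ker →* ↥(Subgroup.normalizer ((T : Subgroup M) : Set M)) :=
        { toFun := fun x => ⟨⟨(x.1 : N), (QuotientGroup.eq_one_iff _).1 x.2⟩, by
            rw [Subgroup.mem_normalizer_iff, hT]
            intro y
            exact Subgroup.mem_normalizer_iff.1 x.1.2 y⟩
          map_one' := rfl
          map_mul' := fun _ _ => rfl }
      exact Group.isSolvable_of_isSolvable_injective (f := f) fun x y h =>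
        Subtype.ext (Subtype.ext (congrArg (fun z => ((z.1 : M) : N)) h))
    exact Group.isSolvable_of_ker_le_range g.ker.subtype g.rangeRestrict fun x hx =>
      ⟨⟨x, by rwa [MonoidHom.ker_rangeRestrict] at hx⟩, rfl⟩

/-- Extensions by 2-groups. -/
theorem kg_sup_two {G : Type u} [Group G] [Finite G] (hK : KG G) (N : Subgroup G) [N.Normal] (S : Subgroup G)
    (hS : IsPGroup 2 S) : KG ↥(N ⊔ S) := by
  haveI : Fact (Nat.Prime 2) := ⟨Nat.prime_two⟩
  set H := N ⊔ S
  haveI : (N.subgroupOf H).Normal := inferInstance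
  refine kg_extension (N.subgroupOf H)
    (kg_congr (Subgroup.subgroupOfEquivOfLe le_sup_left).symm (kg_subnormal (Subgroup.Normal.isSubnormal ‹N.Normal›) hK))
    (kg_of_solvable ?_)
  have h : (N.subgroupOf H) ⊔ (S.subgroupOf H) = ⊤ := by
    rw [← Subgroup.subgroupOf_sup le_sup_left le_sup_right, Subgroup.subgroupOf_self]
  haveI : Group.IsSolvable S := by haveI := hS.isNilpotent; infer_instance
  let f : S →* H ⧸ N.subgroupOf H := (QuotientGroup.mk' _).comp (Subgroup.inclusion le_sup_right)
  refine Group.isSolvable_of_surjective (f := f) fun y => ?_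
  obtain ⟨x, rfl⟩ := QuotientGroup.mk'_surjective _ y
  obtain ⟨a, ha, b, hb, rfl⟩ := Subgroup.mem_sup_of_normal_left.1 (h ▸ Subgroup.mem_top x)
  exact ⟨⟨b, hb⟩, by
    rw [map_mul, show (QuotientGroup.mk' (N.subgroupOf H)) a = 1 from (QuotientGroup.eq_one_iff a).2 ha, one_mul]
    rfl⟩

/-- The normaliser of a Sylow 2-subgroup of a normal subgroup. -/
theorem kg_normalizer {G : Type u} [Group G] [Finite G] (hK : KG G) (N : Subgroup G) [N.Normal]
    (S : Sylow 2 G) : KG ↥(Subgroup.normalizer (((S : Subgroup G) ⊓ N : Subgroup G) : Set G)) := by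
  haveI : Fact (Nat.Prime 2) := ⟨Nat.prime_two⟩
  obtain ⟨T, hT0⟩ := ((Fusion.sylIn_top S).inf_normal (le_top : N ≤ ⊤)
    (by rw [Subgroup.normalizer_eq_top])).exists_sylow_subgroupOf
  have hT : (T : Subgroup N) = (S : Subgroup G).subgroupOf N := hT0.trans (Subgroup.inf_subgroupOf_right _ _)
  have hTe : (T : Subgroup N).map N.subtype = (S : Subgroup G) ⊓ N := by
    rw [hT, Subgroup.subgroupOf_map_subtype]
  set H := Subgroup.normalizer (((S : Subgroup G) ⊓ N : Subgroup G) : Set G)
  haveI := solvable_normalizer_sylow _ rfl (kg_subnormal (Subgroup.Normal.isSubnormal ‹N.Normal›) hK) T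
  haveI : Group.IsSolvable ↥(N.subgroupOf H) := by
    let f : ↥(N.subgroupOf H) →* ↥(Subgroup.normalizer ((T : Subgroup N) : Set N)) :=
      { toFun := fun x => ⟨⟨(x.1 : G), x.2⟩, by
          rw [Subgroup.mem_normalizer_iff, hT]
          intro y
          have h := Subgroup.mem_normalizer_iff.1 x.1.2 (y : G)
          simp only [Subgroup.mem_inf] at h
          exact ⟨fun hy => (h.1 ⟨hy, y.2⟩).1,
            fun hy => (h.2 ⟨hy, (⟨(x.1 : G), x.2⟩ * y * (⟨(x.1 : G), x.2⟩ : N)⁻¹ : N).2⟩).1⟩⟩
        map_one' := rfl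
        map_mul' := fun _ _ => rfl }
    exact Group.isSolvable_of_isSolvable_injective (f := f) fun x y h =>
      Subtype.ext (Subtype.ext (congrArg (fun z => ((z.1 : N) : G)) h))
  let g : H →* G ⧸ N := (QuotientGroup.mk' N).comp H.subtype
  have hg : Function.Surjective g := by
    intro y
    obtain ⟨x, rfl⟩ := QuotientGroup.mk'_surjective N y
    have hfr := Sylow.normalizer_sup_eq_top T
    rw [hTe] at hfr
    obtain ⟨a, ha, b, hb, rfl⟩ := Subgroup.mem_sup_of_normal_right.1 (hfr ▸ Subgroup.mem_top x)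
    exact ⟨⟨a, ha⟩, by
      rw [map_mul, show (QuotientGroup.mk' N) b = 1 from (QuotientGroup.eq_one_iff b).2 hb, mul_one]
      rfl⟩
  refine kg_of_normal_quotient (N.subgroupOf H) (kg_of_solvable inferInstance) g hg ?_
    (kg_of_surjective (QuotientGroup.mk' N) (QuotientGroup.mk'_surjective N) hK)
  ext x
  exact QuotientGroup.eq_one_iff (N := N) (x : G)

end Cfsg.Agent.Solv.TwoFac
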