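import Cfsg.Agent.Lib.Solv.TwoFactor.Section

/-!
Normal elementary abelian subgroups of a Sylow 2-subgroup with the E-condition lie in the 2-core.
-/

set_option autoImplicit false
set_option linter.style.haveILetI false
set_option linter.unusedSectionVars false

open scoped commutatorElement

namespace Cfsg.Agent.Solv.TwoFac

universe u

variable {G : Type u} [Group G]

/-- The first half of the condition defining E-groups, for subgroups of `S` acting on `V`. -/
def EC (S V : Subgroup G) : Prop :=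
  ∀ R : Subgroup G, R ≤ S → ⁅R, R⁆ ≤ Subgroup.centralizer (V : Set G) →
    (∀ x ∈ R, x * x ∈ Subgroup.centralizer (V : Set G)) → ¬ R ≤ Subgroup.centralizer (V : Set G) →
      (Subgroup.centralizer (V : Set G)).relIndex R ^ 3 < (Subgroup.centralizer (R : Set G)).relIndex V ^ 2

theorem EC.elementary {S V R : Subgroup G} (h : EC S V) (hR : R ≤ S)
    (hRe : Cfsg.IsElementaryAbelian 2 R) (hne : ¬ R ≤ Subgroup.centralizer (V : Set G)) :
    (Subgroup.centralizer (V : Set G)).relIndex R ^ 3 <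
      (Subgroup.centralizer (R : Set G)).relIndex V ^ 2 := by
  haveI := hRe.1
  refine h R hR (Subgroup.commutator_le.2 fun a ha b hb => ?_) (fun x hx => ?_) hne
  · rw [commutatorElement_eq_one_iff_mul_comm.2
      (congrArg Subtype.val ((inferInstance : IsMulCommutative R).is_comm.comm ⟨a, ha⟩ ⟨b, hb⟩))]
    exact one_mem _
  · rw [← pow_two, hRe.2 x hx]; exact one_mem _

theorem elem_mono [Finite G] {A B : Subgroup G} (hA : Cfsg.IsElementaryAbelian 2 A) (h : B ≤ A) :
    Cfsg.IsElementaryAbelian 2 B :=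
  OffGain.elemAb_le hA h

theorem elem_cj {A : Subgroup G} (hA : Cfsg.IsElementaryAbelian 2 A) (g : G) :
    Cfsg.IsElementaryAbelian 2 (Fusion.cj A g) := by
  haveI := hA.1
  refine ⟨inferInstance, ?_⟩
  rintro _ ⟨a, ha, rfl⟩
  rw [← map_pow, hA.2 a ha, map_one]

variable [Finite G]

theorem relIndex_cj' (H K : Subgroup G) (g : G) :
    (Fusion.cj H g).relIndex (Fusion.cj K g) = H.relIndex K :=
  Subgroup.relIndex_map_map_of_injective H K (MulAut.conj g).injective

/-- An image has no larger index. -/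
theorem map_relIndex_le {H' : Type*} [Group H'] (f : G →* H') (H K : Subgroup G) :
    (H.map f).relIndex (K.map f) ≤ H.relIndex K := by
  have hd := (H.subgroupOf K).index_map_dvd (f := f.subgroupMap K) (f.subgroupMap_surjective K)
  have hle : (H.subgroupOf K).map (f.subgroupMap K) ≤ (H.map f).subgroupOf (K.map f) := by
    rintro _ ⟨x, hx, rfl⟩
    exact ⟨x, hx, rfl⟩
  exact le_trans (Nat.le_of_dvd (Nat.pos_of_ne_zero Subgroup.index_ne_zero_of_finite)
    ((Subgroup.index_dvd_of_le hle).trans hd)) le_rfl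

/-- The element computation: the commutators with `c` of a set of fixed points spread under `s`. -/
theorem spread {X W : Type*} [Group X] [Finite X] [CommGroup W] [Finite W] (φ : X →* MulAut W)
    (hW : ∀ v : W, v * v = 1) {B : Subgroup X} {c s : X} (hcs : c * s * c⁻¹ = s⁻¹)
    (hso : Odd (orderOf s)) (hsB : ∀ b ∈ B, b * s = s * b) (hcB : ∀ b ∈ B, b * c = c * b)
    (hc2 : c * c = 1) :
    ∃ D : Subgroup W, D ≤ OffGain.fixV φ (B : Set X) ∧
      (∀ d ∈ D, ∃ w : W, d = w⁻¹ * φ c w) ∧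
      (∀ d ∈ D, φ c d = d → φ s d ∈ OffGain.fixV φ ((B : Set X) ∪ {c}) →
        φ s d ∈ OffGain.fixV φ ((B : Set X) ∪ {s})) ∧
      ∃ j : ℕ, (OffGain.fixV φ ((B : Set X) ∪ {s})).relIndex D = 2 ^ j ∧
        (OffGain.fixV φ ((B : Set X) ∪ {s})).relIndex (OffGain.fixV φ (B : Set X)) ≤ (2 ^ j) ^ 2 := by
  classical
  haveI : Fact (Nat.Prime 2) := ⟨Nat.prime_two⟩
  set Wf := OffGain.fixV φ (B : Set X)
  set F := OffGain.fixV φ ((B : Set X) ∪ {s}) with hF
  let τ : W →* W :=
    { toFun := fun v => v⁻¹ * φ c v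
      map_one' := by simp
      map_mul' := fun u v => by rw [map_mul, mul_inv, mul_mul_mul_comm] }
  have hcτ : ∀ v, φ c (τ v) = τ v := by
    intro v
    show φ c (v⁻¹ * φ c v) = v⁻¹ * φ c v
    rw [map_mul, map_inv, OffGain.act_act, hc2, map_one, MulAut.one_apply,
      ← inv_eq_of_mul_eq_one_right (hW (v⁻¹ * φ c v)), mul_inv, inv_inv]
    rw [mul_comm]
  have hs2 : ∀ y : W, φ (s * s) y = y → φ s y = y := by
    intro y hy
    obtain ⟨j, hj⟩ := hso
    have h1 := OffGain.fix_pow φ hy (j + 1)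
    rwa [← pow_two, ← pow_mul, show 2 * (j + 1) = orderOf s + 1 by omega, pow_succ, pow_orderOf_eq_one,
      one_mul] at h1
  have hinv : c * s = s⁻¹ * c := by rw [← hcs]; group
  have hFs : ∀ f ∈ F, φ s f = f := fun f hf => hf s (Or.inr rfl)
  refine ⟨Wf.map τ, ?_, fun d hd => ?_, fun d hd hcd hsd => ?_, ?_⟩
  · rintro _ ⟨v, hv, rfl⟩
    exact mul_mem (inv_mem hv) (OffGain.commute_mem φ hcB hv)
  · obtain ⟨v, -, rfl⟩ := hd
    exact ⟨v, rfl⟩
  · have h1 : φ c (φ s d) = φ s d := hsd c (Or.inr rfl)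
    rw [OffGain.act_act, hinv, ← OffGain.act_act, hcd] at h1
    have h2 : φ (s * s) d = d := by
      rw [← OffGain.act_act, ← h1, OffGain.act_act, mul_inv_cancel, map_one]; rfl
    rintro b (hb | hb)
    · exact hsd b (Or.inl hb)
    · rw [Set.mem_singleton_iff.1 hb, hs2 d h2]
      exact hs2 d h2
  set T := F.comap τ with hT
  have hrel : T.relIndex Wf = F.relIndex (Wf.map τ) := Subgroup.relIndex_comap F τ Wf
  obtain ⟨k, hk⟩ := IsPGroup.iff_card.1
    ((show IsPGroup 2 W from fun v => ⟨1, by rw [pow_one, pow_two]; exact hW v⟩).to_subgroup Wf)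
  obtain ⟨j, -, hj⟩ := (Nat.dvd_prime_pow Nat.prime_two).1
    (show T.relIndex Wf ∣ 2 ^ k by rw [← hk, ← relIndex_mul_card (H := T) (K := Wf)]; exact dvd_mul_right _ _)
  refine ⟨j, hrel.symm.trans hj, ?_⟩
  rw [← hj]
  let ψ : W ≃* W := φ s
  have hWmap : Wf.map ψ.toMonoidHom = Wf := by
    refine le_antisymm ?_ fun v hv => ⟨φ s⁻¹ v, OffGain.commute_mem φ
      (fun b hb => (show Commute b s from hsB b hb).inv_right.eq) hv,
      show φ s (φ s⁻¹ v) = v by rw [OffGain.act_act, mul_inv_cancel, map_one]; rfl⟩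
    rintro _ ⟨u, hu, rfl⟩
    exact OffGain.commute_mem φ hsB hu
  have hrel' : (T.map ψ.toMonoidHom).relIndex Wf = T.relIndex Wf := by
    conv_lhs => rw [← hWmap]
    exact Subgroup.relIndex_map_map_of_injective T Wf ψ.injective
  have hle : T ⊓ T.map ψ.toMonoidHom ⊓ Wf ≤ F := by
    rintro x ⟨⟨hx, y, hy, rfl⟩, hxW⟩
    have hy1 : φ c y = y * τ y := (mul_inv_cancel_left _ _).symm
    have hx1 : φ c (φ s y) = φ s y * τ (φ s y) := (mul_inv_cancel_left _ _).symm
    rw [OffGain.act_act, hinv, ← OffGain.act_act, hy1] at hx1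
    have h2 := congrArg (φ s) hx1
    rw [OffGain.act_act, mul_inv_cancel, map_one, MulAut.one_apply, map_mul, OffGain.act_act,
      hFs (τ (φ s y)) hx] at h2
    set f := τ y * (τ (φ s y))⁻¹ with hf
    have hfF : f ∈ F := mul_mem hy (inv_mem hx)
    have h3 : φ (s * s) y = y * f := by
      rw [hf, ← mul_assoc, h2, mul_inv_cancel_right]
    have h4 : ∀ i : ℕ, φ ((s * s) ^ i) y = y * f ^ i := by
      intro i
      induction i with
      | zero => simp
      | succ i ih =>
        rw [pow_succ', ← OffGain.act_act, ih, map_mul, h3, OffGain.fix_pow φ (hFs f hfF) i |> fun _ =>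
          show φ (s * s) (f ^ i) = f ^ i by
            rw [map_pow, ← OffGain.act_act, hFs f hfF, hFs f hfF], pow_succ', mul_assoc]
    have hf1 : f = 1 := by
      have h5 := h4 (orderOf s)
      rw [← pow_two s, ← pow_mul, mul_comm, pow_mul, pow_orderOf_eq_one, one_pow, map_one,
        MulAut.one_apply] at h5
      have h6 : f ^ orderOf s = 1 := mul_eq_left.1 h5.symm
      have h7 : f ^ 2 = 1 := by rw [pow_two]; exact hW f
      exact orderOf_eq_one_iff.1 (Nat.eq_one_of_dvd_coprimes (Nat.coprime_two_left.2 hso)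
        (orderOf_dvd_of_pow_eq_one h7) (orderOf_dvd_of_pow_eq_one h6))
    have h8 : φ s y = y := hs2 y (by rw [h3, hf1, mul_one])
    rintro b (hb | hb)
    · exact hxW b hb
    · rw [Set.mem_singleton_iff.1 hb]
      show φ s (φ s y) = φ s y
      rw [h8, h8]
  calc F.relIndex Wf ≤ (T ⊓ T.map ψ.toMonoidHom ⊓ Wf).relIndex Wf := relIndex_le_left hle
    _ = (T ⊓ T.map ψ.toMonoidHom).relIndex Wf := Subgroup.inf_relIndex_right _ _
    _ ≤ T.relIndex Wf * (T.map ψ.toMonoidHom).relIndex Wf := Subgroup.relIndex_inf_le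
    _ = _ := by rw [hrel', pow_two]

variable [Fact (Nat.Prime 2)]

/-- A normal elementary abelian subgroup of `S` with the E-condition lies in the 2-core. -/
theorem le_core {S : Sylow 2 G} (c₀ : Ctx S) {V : Subgroup G} (hVS : V ≤ (S : Subgroup G))
    (hVe : Cfsg.IsElementaryAbelian 2 V)
    (hVn : (S : Subgroup G) ≤ Subgroup.normalizer (V : Set G)) (hE : EC (S : Subgroup G) V) :
    V ≤ Cfsg.pCore 2 G := by
  classical
  by_contra hVQ
  set Q := Cfsg.pCore 2 G
  have hO : ¬ Cfsg.pResidual 2 G ≤ Q := by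
    intro hle
    have h1 : (⊤ : Subgroup G) ≤ S := by
      rw [← Fusion.pResidual_sup_sylow S]
      exact sup_le (hle.trans (Fusion.pCore_le_sylow S)) le_rfl
    haveI : (S : Subgroup G).Normal := by rw [top_le_iff.1 h1]; infer_instance
    exact hVQ (hVS.trans (Fusion.le_pCore S.isPGroup'))
  obtain ⟨N, M, hNn, hMn, h⟩ := exists_redSec c₀.constrained hO
  set π := QuotientGroup.mk' N with hπ
  set Vb := M.map π
  letI : CommGroup Vb := { (inferInstance : Group Vb) with mul_comm := h.comm_map }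
  set f := (act N M).rangeRestrict with hf
  let φ : ↥(act N M).range →* MulAut Vb := (act N M).range.subtype
  set B := V.map f
  have hBe : Cfsg.IsElementaryAbelian 2 B := by
    haveI := hVe.1
    refine ⟨inferInstance, ?_⟩
    rintro _ ⟨a, ha, rfl⟩
    rw [← map_pow, hVe.2 a ha, map_one]
  have hker : f.ker = centMod N M := by rw [hf, MonoidHom.ker_rangeRestrict, ker_act]
  have hne : B ≠ ⊥ := by
    rw [Ne, Subgroup.map_eq_bot_iff, hker]
    exact fun hle => hVQ ((le_inf hVS hle).trans (h.ker_inf c₀).le)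
  obtain ⟨B0, c, r, ℓ, n, hB0, hc, hlt, hP, hcard, hn⟩ :=
    OffGain.exists_wit φ h.sq_map (act N M).range.subtype_injective (h.sthree_free c₀) (h.pCore_range c₀)
      (kg_of_surjective f (act N M).rangeRestrict_surjective c₀.kg) hBe hne
  set V0 := V ⊓ B0.comap f with hV0
  set K1 := B0.comap f
  set P0 := Q ⊔ V0 with hP0
  have hQK : Q ≤ K1 := fun q hq => by
    show f q ∈ B0
    rw [MonoidHom.mem_ker.1 (hker.ge (h.core_le_ker hq))]
    exact one_mem _
  have hQS : Q ≤ (S : Subgroup G) := Fusion.pCore_le_sylow S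
  have hP0S : P0 ≤ (S : Subgroup G) := sup_le hQS (inf_le_left.trans hVS)
  have hK1 : K1 ≤ centMod N M ⊔ P0 := by
    intro x hx
    obtain ⟨v, hv, hve⟩ := hB0 hx
    have h1 : x * v⁻¹ ∈ centMod N M := by
      rw [← hker, MonoidHom.mem_ker, map_mul, map_inv, hve, mul_inv_cancel]
    have h2 : v ∈ P0 := Subgroup.mem_sup_right ⟨hv, show f v ∈ B0 by rw [hve]; exact hx⟩
    rw [show x = x * v⁻¹ * v by group]
    exact mul_mem (Subgroup.mem_sup_left h1) (Subgroup.mem_sup_right h2)
  have hKK : centMod N M ≤ K1 := fun x hx => by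
    show f x ∈ B0
    rw [MonoidHom.mem_ker.1 (hker.ge hx)]
    exact one_mem _
  have hP0K : P0 ≤ K1 := sup_le hQK inf_le_right
  have hsyl : Fusion.SylIn 2 P0 K1 := by
    refine ⟨hP0K, S.isPGroup'.to_le hP0S, ?_⟩
    rw [relIndex_split hP0K hKK, Subgroup.relIndex_eq_one.2 hK1, one_mul,
      ← Subgroup.inf_relIndex_right]
    have h1 : P0 ⊓ centMod N M = Q :=
      le_antisymm ((inf_le_inf_right _ hP0S).trans (h.ker_inf c₀).le) (le_inf le_sup_left h.core_le_ker)
    have h2 := ((Fusion.sylIn_top S).inf_normal (le_top : centMod N M ≤ ⊤)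
      (by rw [Subgroup.normalizer_eq_top])).not_dvd
    rw [h.ker_inf c₀] at h2
    rw [h1]
    exact h2
  -- a lift normalising `P0`
  obtain ⟨g0, hg0⟩ := (act N M).rangeRestrict_surjective r
  obtain ⟨k, hk, hkle⟩ := hsyl.conj_le (hsyl.isPGroup.map _) (show Fusion.cj P0 g0 ≤ K1 by
    rintro _ ⟨x, hx, rfl⟩
    show f (g0 * x * g0⁻¹) ∈ B0
    have hx' : f x ∈ B0 := hP0K hx
    rw [map_mul, map_mul, map_inv, hg0, ← hP.cent _ hx', mul_inv_cancel_right]
    exact hx')
  rw [Fusion.cj_cj] at hkle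
  set g := k * g0 with hg
  have hgn : Fusion.cj P0 g = P0 := Fusion.cj_eq_of_cj_le hkle
  have hgn' : Fusion.cj P0 g⁻¹ = P0 := by
    conv_lhs => rw [← hgn]
    rw [Fusion.cj_cj_inv]
  have hfg : f g = f k * r := by rw [hg, map_mul, hg0]
  -- one side
  have side : ∀ (x : G) (s : ↥(act N M).range), Fusion.cj P0 x = P0 → c * s * c⁻¹ = s⁻¹ →
      Odd (orderOf s) → (∀ b ∈ B0, b * s = s * b) →
      (∀ w ∈ OffGain.fixV φ (B0 : Set ↥(act N M).range), φ (f x) w = φ s w) →
      OffGain.fixV φ ((B0 : Set ↥(act N M).range) ∪ {s}) =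
        OffGain.fixV φ ((B0 : Set ↥(act N M).range) ∪ {r}) →
      ∃ rV : ℕ, n ^ 2 ≤ rV ∧
        (Subgroup.centralizer ((V ⊓ Fusion.cj (S : Subgroup G) x : Subgroup G) : Set G)).relIndex
          (Fusion.cj V x ⊓ (S : Subgroup G)) ≤ rV ∧
        rV ^ 3 < (n * (Subgroup.centralizer ((Fusion.cj V x ⊓ (S : Subgroup G) : Subgroup G) : Set G)).relIndex
          (V ⊓ Fusion.cj (S : Subgroup G) x)) ^ 2 := by
    intro x s hx hcs hso hsB hact hfix
    set R := Fusion.cj V x ⊓ (S : Subgroup G)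
    set R' := V ⊓ Fusion.cj (S : Subgroup G) x
    set C := Subgroup.centralizer (V : Set G)
    obtain ⟨D, hDW, hDw, hDfix, j, hj, hj2⟩ := spread φ h.sq_map hcs hso hsB
      (fun b hb => hP.centA b hb) (OffGain.inv_self hBe hc)
    rw [hfix] at hj2
    have hn2 : n ^ 2 ≤ 2 ^ j := hn j hj2
    obtain ⟨vc, hvc, hvce⟩ := hc
    set F := OffGain.fixV φ ((B0 : Set ↥(act N M).range) ∪ {s})
    let ψ : Vb ≃* Vb := φ s
    set E := R ⊓ M
    set H' := ((E ⊓ C).map π).subgroupOf Vb
    have hMS : M ≤ (S : Subgroup G) := h.core.trans hQS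
    have hDE : D.map ψ.toMonoidHom ≤ (E.map π).subgroupOf Vb := by
      rintro _ ⟨d, hd, rfl⟩
      have hds : ψ d = φ (f x) d := (hact d (hDW hd)).symm
      obtain ⟨⟨_, m, hm, rfl⟩, rfl⟩ := hDw d hd
      set z := m⁻¹ * (vc * m * vc⁻¹)
      have hzM : z ∈ M := mul_mem (inv_mem hm) (hMn.conj_mem m hm vc)
      have hzV : z ∈ V := by
        rw [show z = (m⁻¹ * vc * m) * vc⁻¹ by simp only [z, mul_assoc]]
        refine mul_mem ?_ (inv_mem hvc)
        have := (Subgroup.mem_normalizer_iff.1 (hVn (inv_mem (hMS hm))) vc).1 hvc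
        simpa using this
      refine ⟨x * z * x⁻¹, ⟨⟨Fusion.conj_mem_cj hzV, hMS (hMn.conj_mem z hzM x)⟩, hMn.conj_mem z hzM x⟩, ?_⟩
      show π (x * z * x⁻¹) = ((ψ _ : Vb) : G ⧸ N)
      rw [hds]
      show π (x * z * x⁻¹) = π x * ((π m)⁻¹ * ((φ c ⟨π m, m, hm, rfl⟩ : Vb) : G ⧸ N)) * (π x)⁻¹
      rw [← hvce]
      show π (x * z * x⁻¹) = π x * ((π m)⁻¹ * (π vc * π m * (π vc)⁻¹)) * (π x)⁻¹
      simp only [z, map_mul, map_inv]
    have hFψ : F.map ψ.toMonoidHom = F := by
      refine le_antisymm ?_ fun v hv => ⟨v, hv, hv s (Or.inr rfl)⟩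
      rintro _ ⟨v, hv, rfl⟩
      show φ s v ∈ F
      rw [hv s (Or.inr rfl)]
      exact hv
    have hinf : H' ⊓ D.map ψ.toMonoidHom ≤ F := by
      rintro _ ⟨⟨e, he, hee⟩, d, hd, rfl⟩
      obtain ⟨w, hw⟩ := hDw d hd
      have hcd : φ c d = d := by
        rw [hw, map_mul, map_inv, OffGain.act_act, OffGain.inv_self hBe ⟨vc, hvc, hvce⟩, map_one,
          MulAut.one_apply, ← inv_eq_of_mul_eq_one_right (h.sq_map (w⁻¹ * φ c w)), mul_inv, inv_inv]
        rw [mul_comm]
      refine hDfix d hd hcd ?_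
      have hfixB : ∀ b ∈ B, φ b (ψ d) = ψ d := by
        rintro _ ⟨v, hv, rfl⟩
        refine Subtype.ext ?_
        show π v * ((ψ d : Vb) : G ⧸ N) * (π v)⁻¹ = _
        rw [show ((ψ d : Vb) : G ⧸ N) = π e from hee.symm, ← map_mul, ← map_inv, ← map_mul,
          Subgroup.mem_centralizer_iff.1 he.2 v hv, mul_inv_cancel_right]
      rintro b (hb | hb)
      · exact hfixB b (hB0 hb)
      · rw [Set.mem_singleton_iff.1 hb]
        exact hfixB c ⟨vc, hvc, hvce⟩
    have hrV : 2 ^ j ≤ C.relIndex R := by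
      calc 2 ^ j = F.relIndex (D.map ψ.toMonoidHom) := by
            rw [← hj]
            conv_rhs => rw [← hFψ]
            exact (Subgroup.relIndex_map_map_of_injective F D ψ.injective).symm
        _ ≤ (H' ⊓ D.map ψ.toMonoidHom).relIndex (D.map ψ.toMonoidHom) := relIndex_le_left hinf
        _ = H'.relIndex (D.map ψ.toMonoidHom) := Subgroup.inf_relIndex_right _ _
        _ ≤ H'.relIndex ((E.map π).subgroupOf Vb) := relIndex_le_right hDE
        _ = ((E ⊓ C).map π).relIndex (E.map π) :=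
            Subgroup.relIndex_subgroupOf (Subgroup.map_mono inf_le_right)
        _ ≤ (E ⊓ C).relIndex E := map_relIndex_le π _ _
        _ = C.relIndex E := Subgroup.inf_relIndex_left _ _
        _ ≤ C.relIndex R := relIndex_le_right inf_le_left
    refine ⟨C.relIndex R, hn2.trans hrV, relIndex_le_left (Subgroup.centralizer_le inf_le_left), ?_⟩
    have hRe : Cfsg.IsElementaryAbelian 2 R := elem_mono (elem_cj hVe x) inf_le_left
    have h1 : ¬ R ≤ C := by
      intro hle
      have h4 := hn2.trans hrV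
      rw [Subgroup.relIndex_eq_one.2 hle] at h4
      have h5 : n ≤ 1 := (Nat.pow_le_one_iff two_ne_zero).1 h4
      have h6 := hcard.trans (Nat.mul_le_mul_left _ h5)
      omega
    refine lt_of_lt_of_le (hE.elementary inf_le_right hRe h1) (Nat.pow_le_pow_left ?_ 2)
    have hV0R : V0 ≤ R' := le_inf inf_le_left
      ((le_sup_right : V0 ≤ P0).trans (hx.ge.trans (Fusion.cj_mono hP0S x)))
    calc (Subgroup.centralizer (R : Set G)).relIndex V
        ≤ (R' ⊓ Subgroup.centralizer (R : Set G)).relIndex V := relIndex_le_left inf_le_right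
      _ = (R' ⊓ Subgroup.centralizer (R : Set G)).relIndex R' * R'.relIndex V :=
          (Subgroup.relIndex_mul_relIndex _ _ _ inf_le_left inf_le_left).symm
      _ = (Subgroup.centralizer (R : Set G)).relIndex R' * R'.relIndex V := by rw [Subgroup.inf_relIndex_left]
      _ ≤ (Subgroup.centralizer (R : Set G)).relIndex R' * n := by
          refine Nat.mul_le_mul_left _ ((relIndex_le_left hV0R).trans ?_)
          rw [hV0, Subgroup.inf_relIndex_left, Subgroup.relIndex_comap]
          have h2 := relIndex_mul_card (H := B0) (K := B)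
          rw [inf_eq_right.2 hB0] at h2
          exact Nat.le_of_mul_le_mul_right (by rw [h2, mul_comm]; exact hcard) (Nat.card_pos (α := B0))
      _ = _ := mul_comm _ _
  have hbW : ∀ b ∈ B0, ∀ w ∈ OffGain.fixV φ (B0 : Set ↥(act N M).range), φ b w = w :=
    fun b hb w hw => hw b hb
  have hrB : ∀ b ∈ B0, b * r = r * b := hP.cent
  have hkB : f k ∈ B0 := hk
  obtain ⟨rV, h1, h2, h3⟩ := side g r hgn hP.inv (hP.ord ▸ hP.prime.odd_of_ne_two hP.ne_two) hrB
    (fun w hw => by
      rw [hfg, map_mul, MulAut.mul_apply]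
      exact hbW _ hkB _ (OffGain.commute_mem φ hrB hw)) rfl
  obtain ⟨rV', h1', h2', h3'⟩ := side g⁻¹ r⁻¹ hgn' (by rw [← conj_inv, hP.inv])
    (by rw [orderOf_inv]; exact hP.ord ▸ hP.prime.odd_of_ne_two hP.ne_two)
    (fun b hb => (show Commute b r from hrB b hb).inv_right.eq)
    (fun w hw => by
      rw [map_inv f, hfg, mul_inv_rev, map_mul, MulAut.mul_apply, hbW _ (inv_mem hkB) _ hw])
    (by
      refine le_antisymm (fun w hw => ?_) fun w hw => ?_
      all_goals
        rintro b (hb | hb)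
        · exact hw b (Or.inl hb)
        · rw [Set.mem_singleton_iff.1 hb]
          have h4 := hw _ (Or.inr rfl)
          conv_lhs => rw [← h4]
          rw [OffGain.act_act]
          simp)
  have e1 : Fusion.cj (Fusion.cj V g⁻¹ ⊓ (S : Subgroup G)) g = V ⊓ Fusion.cj (S : Subgroup G) g := by
    rw [Fusion.cj_inf, Fusion.cj_inv_cj]
  have e2 : Fusion.cj (V ⊓ Fusion.cj (S : Subgroup G) g⁻¹) g = Fusion.cj V g ⊓ (S : Subgroup G) := by
    rw [Fusion.cj_inf, Fusion.cj_inv_cj]
  rw [← relIndex_cj' _ _ g, Fusion.cj_centralizer, e1, e2] at h2' h3'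
  set p := (Subgroup.centralizer ((Fusion.cj V g ⊓ (S : Subgroup G) : Subgroup G) : Set G)).relIndex
    (V ⊓ Fusion.cj (S : Subgroup G) g)
  set q := (Subgroup.centralizer ((V ⊓ Fusion.cj (S : Subgroup G) g : Subgroup G) : Set G)).relIndex
    (Fusion.cj V g ⊓ (S : Subgroup G))
  have key : ∀ a b z : ℕ, n ^ 2 ≤ z → b ≤ z → a ≤ b → z ^ 3 < (n * a) ^ 2 → False := by
    intro a b z hz hb hab hlt
    have h4 : (n * a) ^ 2 ≤ z * z ^ 2 := by
      rw [mul_pow]; exact Nat.mul_le_mul hz (Nat.pow_le_pow_left (hab.trans hb) 2)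
    rw [show z * z ^ 2 = z ^ 3 by ring] at h4
    omega
  rcases le_total p q with hpq | hqp
  · exact key p q rV h1 h2 hpq h3
  · exact key q p rV' h1' h2' hqp h3'

end Cfsg.Agent.Solv.TwoFac
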