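import Cfsg.Agent.Lib.Solv.TwoFactor.Tools
import Cfsg.Agent.Lib.Solv.TwoFactor.KGroup
import Cfsg.Agent.Lib.LocalEven.SFourInvolved
import Cfsg.Agent.Lib.JComp.Basic

/-!
Sections of the 2-core on which the action of a group without sections `S₄` is reduced.
-/

set_option autoImplicit false
set_option linter.style.haveILetI false

open scoped commutatorElement

namespace Cfsg.Agent.Solv.TwoFac

universe u

variable {G : Type u} [Group G] [Finite G] [Fact (Nat.Prime 2)]

/-- The standing hypotheses: normal subgroups not covering `G` over `S` meet `S` in the 2-core. -/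
structure Ctx (S : Sylow 2 G) : Prop where
  constrained : Subgroup.centralizer (Cfsg.pCore 2 G : Set G) ≤ Cfsg.pCore 2 G
  free : ¬ Cfsg.Involves (Equiv.Perm (Fin 4)) G
  kg : KG G
  cover : ∀ C : Subgroup G, C.Normal → C ⊔ (S : Subgroup G) ≠ ⊤ → (S : Subgroup G) ⊓ C ≤ Cfsg.pCore 2 G

/-- A section centralised by the 2-core and moved by the elements of odd order. -/
structure RedSec (N M : Subgroup G) : Prop where
  le : N ≤ M
  core : M ≤ Cfsg.pCore 2 G
  sq : ∀ m ∈ M, m * m ∈ N
  comm : ⁅M, M⁆ ≤ N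
  cent : ⁅M, Cfsg.pCore 2 G⁆ ≤ N
  moved : ¬ ⁅M, Cfsg.pResidual 2 G⁆ ≤ N

variable (N M : Subgroup G) [N.Normal] [M.Normal]

instance map_mk_normal : (M.map (QuotientGroup.mk' N)).Normal :=
  Subgroup.Normal.map inferInstance _ (QuotientGroup.mk'_surjective N)

/-- The action on a section. -/
def act : G →* MulAut ↥(M.map (QuotientGroup.mk' N)) := MulAut.conjNormal.comp (QuotientGroup.mk' N)

variable {N M}

theorem act_val (g : G) (v : ↥(M.map (QuotientGroup.mk' N))) :
    ((act N M g v : ↥(M.map (QuotientGroup.mk' N))) : G ⧸ N) =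
      QuotientGroup.mk' N g * v * (QuotientGroup.mk' N g)⁻¹ := rfl

theorem ker_act : (act N M).ker = centMod N M := by
  ext g
  rw [MonoidHom.mem_ker, mem_centMod]
  constructor
  · intro h m hm
    have h1 := congrArg Subtype.val (DFunLike.congr_fun h ⟨_, Subgroup.mem_map_of_mem _ hm⟩)
    rw [act_val] at h1
    rw [← QuotientGroup.eq_one_iff (N := N)]
    show QuotientGroup.mk' N ⁅g, m⁆ = 1
    rw [map_commutatorElement, commutatorElement_def, h1]
    exact mul_inv_cancel _
  · intro h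
    refine MulEquiv.ext fun ⟨_, m, hm, e⟩ => Subtype.ext ?_
    subst e
    rw [act_val]
    have h1 := (QuotientGroup.eq_one_iff _).2 (h m hm)
    change QuotientGroup.mk' N ⁅g, m⁆ = 1 at h1
    rw [map_commutatorElement, commutatorElement_def, mul_inv_eq_one] at h1
    exact h1

namespace RedSec

variable {S : Sylow 2 G} (c : Ctx S) (h : RedSec N M)
include h

omit [Fact (Nat.Prime 2)] in
theorem sq_map : ∀ v : ↥(M.map (QuotientGroup.mk' N)), v * v = 1 := by
  rintro ⟨_, m, hm, rfl⟩
  refine Subtype.ext ?_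
  show QuotientGroup.mk' N m * QuotientGroup.mk' N m = 1
  rw [← map_mul]
  exact (QuotientGroup.eq_one_iff _).2 (h.sq m hm)

omit [Fact (Nat.Prime 2)] in
theorem comm_map (v w : ↥(M.map (QuotientGroup.mk' N))) : v * w = w * v := by
  obtain ⟨_, m, hm, rfl⟩ := v
  obtain ⟨_, m', hm', rfl⟩ := w
  refine Subtype.ext (commutatorElement_eq_one_iff_mul_comm.1 ?_)
  rw [← map_commutatorElement]
  exact (QuotientGroup.eq_one_iff _).2 (h.comm (Subgroup.commutator_mem_commutator hm hm'))

omit [Fact (Nat.Prime 2)] in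
theorem not_residual_le_ker : ¬ Cfsg.pResidual 2 G ≤ centMod N M := fun hle =>
  h.moved (comm_comm_le (le_centMod.1 hle))

theorem core_le_ker : Cfsg.pCore 2 G ≤ centMod N M := le_centMod.2 (comm_comm_le h.cent)

include c

theorem ker_inf : (S : Subgroup G) ⊓ centMod N M = Cfsg.pCore 2 G := by
  refine le_antisymm (c.cover _ inferInstance fun htop => ?_)
    (le_inf (Fusion.pCore_le_sylow S) h.core_le_ker)
  exact h.not_residual_le_ker (residual_le_of_sup' S.isPGroup' htop)

theorem pCore_range : Cfsg.pCore 2 ↥(act N M).range = ⊥ := by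
  set f := (act N M).rangeRestrict
  set P := Cfsg.pCore 2 ↥(act N M).range
  have hP : IsPGroup 2 P := Fusion.isPGroup_pCore 2 _
  haveI : P.Normal := inferInstance
  set K := P.comap f
  haveI : K.Normal := Subgroup.Normal.comap inferInstance f
  have hker : f.ker = centMod N M := by rw [MonoidHom.ker_rangeRestrict, ker_act]
  have hodd : ∀ x ∈ K, Odd (orderOf x) → x ∈ centMod N M := by
    intro x hx ho
    rw [← hker, MonoidHom.mem_ker]
    obtain ⟨k, hk⟩ := hP ⟨f x, hx⟩
    exact orderOf_eq_one_iff.1 (Nat.eq_one_of_dvd_coprimes ((Nat.coprime_two_left.2 ho).pow_left k)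
      (orderOf_dvd_of_pow_eq_one (congrArg Subtype.val hk)) (orderOf_map_dvd f x))
  have hcov : K ⊔ (S : Subgroup G) ≠ ⊤ := fun htop => h.not_residual_le_ker <| residual_le fun g hg =>
    hodd g (residual_le_of_sup' S.isPGroup' htop (odd_mem_residual hg)) hg
  have hKC : K ≤ centMod N M := by
    intro x hx
    obtain ⟨k, o, ho, hord, hodd'⟩ := JComp.exists_parts x
    refine JComp.mem_of_pow_two_odd (n := k) ho (hodd _ (pow_mem hx _) hodd') ?_
    have h2 : IsPGroup 2 (Subgroup.zpowers (x ^ o)) := by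
      have h1 : orderOf (x ^ o) ∣ 2 ^ k := orderOf_dvd_of_pow_eq_one (by
        rw [← pow_mul, mul_comm, ← hord, pow_orderOf_eq_one])
      obtain ⟨j, -, hj⟩ := (Nat.dvd_prime_pow Nat.prime_two).1 h1
      exact IsPGroup.of_card (n := j) (by rw [Nat.card_zpowers, hj])
    obtain ⟨g, -, hg⟩ := (Fusion.sylIn_top S).conj_le h2 le_top
    have h3 : g * x ^ o * g⁻¹ ∈ (S : Subgroup G) ⊓ K :=
      ⟨hg (Fusion.conj_mem_cj (Subgroup.mem_zpowers _)),
        (inferInstance : K.Normal).conj_mem _ (pow_mem hx o) g⟩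
    have h4 := h.core_le_ker (c.cover K inferInstance hcov h3)
    have h5 := (inferInstance : (centMod N M).Normal).conj_mem _ h4 g⁻¹
    simpa [mul_assoc] using h5
  refine (Subgroup.eq_bot_iff_forall _).2 fun y hy => ?_
  obtain ⟨x, rfl⟩ := (act N M).rangeRestrict_surjective y
  exact MonoidHom.mem_ker.1 (hker.ge (hKC hy))

theorem sthree_free : ¬ Cfsg.Involves (Equiv.Perm (Fin 3)) ↥(act N M).range := by
  intro hinv
  obtain ⟨b, y, ⟨k, hk⟩, hy1, hy3, hby⟩ := LocalEven.SFour.exists_inverted_three hinv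
  set f := (act N M).rangeRestrict
  have hf : Function.Surjective f := (act N M).rangeRestrict_surjective
  let e := QuotientGroup.quotientKerEquivOfSurjective f hf
  obtain ⟨r, hr, hrodd⟩ := Solv.SFour.exists_odd_lift' f.ker (e.symm y) (by
    rw [MulEquiv.orderOf_eq]
    exact Odd.of_dvd_nat (by decide : Odd 3) (orderOf_dvd_of_pow_eq_one hy3))
  have hry : f r = y := by
    have h1 := congrArg e hr
    rwa [MulEquiv.apply_symm_apply] at h1
  obtain ⟨b', rfl⟩ := hf b
  subst hry
  -- the values of the action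
  have hact : ∀ (g : G), f g = 1 → ∀ v ∈ M.map (QuotientGroup.mk' N),
      QuotientGroup.mk' N g * v * (QuotientGroup.mk' N g)⁻¹ = v := fun g hg v hv => by
    have h0 : act N M g = 1 := congrArg Subtype.val hg
    have h1 := congrArg Subtype.val (DFunLike.congr_fun h0 ⟨v, hv⟩)
    rwa [act_val] at h1
  have h4 : Cfsg.Involves (Equiv.Perm (Fin 4)) (G ⧸ N) := by
    refine LocalEven.SFour.involves_of_action (M.map (QuotientGroup.mk' N))
      (fun v hv w hw => congrArg Subtype.val (h.comm_map ⟨v, hv⟩ ⟨w, hw⟩))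
      (fun v hv => congrArg Subtype.val (h.sq_map ⟨v, hv⟩))
      (QuotientGroup.mk' N b') (QuotientGroup.mk' N r)
      (Odd.of_dvd_nat hrodd (orderOf_map_dvd _ r)) ?_ (fun v hv => ?_) ⟨k, fun v hv => ?_⟩ fun v hv => ?_
    · by_contra hno
      push Not at hno
      refine hy1 (Subtype.ext (MulEquiv.ext fun v => Subtype.ext ?_))
      show ((act N M r v : ↥(M.map (QuotientGroup.mk' N))) : G ⧸ N) = v
      rw [act_val]
      exact hno v v.2
    · rw [← map_pow]
      exact hact _ (by rw [map_pow, hy3]) v hv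
    · rw [← map_pow]
      exact hact _ (by rw [map_pow, hk]) v hv
    · rw [← map_inv, ← map_mul, ← map_mul, ← map_mul]
      exact hact _ (by rw [map_mul, map_mul, map_mul, map_inv, hby, inv_mul_cancel]) v hv
  obtain ⟨K, g, hg⟩ := Fusion.involves_exists_surjective h4
  refine c.free (Fusion.involves_of_surjective (g.comp ((QuotientGroup.mk' N).subgroupComap K))
    (hg.comp ?_))
  rintro ⟨y, hy⟩
  obtain ⟨x, rfl⟩ := QuotientGroup.mk'_surjective N y
  exact ⟨⟨x, hy⟩, rfl⟩

/-- The bound of the offender lemma, on a section. -/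
theorem bound {A : Subgroup G} (hA : A ≤ (S : Subgroup G)) (hAe : Cfsg.IsElementaryAbelian 2 A) :
    (Cfsg.pCore 2 G).relIndex A ^ 2 ≤ (N ⊔ (M ⊓ Subgroup.centralizer (A : Set G))).relIndex M := by
  classical
  set π := QuotientGroup.mk' N
  set Vb := M.map π
  letI : CommGroup Vb := { (inferInstance : Group Vb) with mul_comm := h.comm_map }
  set X := (act N M).range
  set f := (act N M).rangeRestrict
  let φ : ↥X →* MulAut Vb := X.subtype
  have hφ : Function.Injective φ := X.subtype_injective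
  have hAb : Cfsg.IsElementaryAbelian 2 (A.map f) := by
    haveI := hAe.1
    refine ⟨inferInstance, ?_⟩
    rintro _ ⟨a, ha, rfl⟩
    rw [← map_pow, hAe.2 a ha, map_one]
  have hb := OffGain.bound φ h.sq_map hφ (h.sthree_free c) (h.pCore_range c)
    (kg_of_surjective f (act N M).rangeRestrict_surjective c.kg) _ hAb
  have hcA : (Cfsg.pCore 2 G).relIndex A = Nat.card (A.map f) := by
    rw [← Subgroup.relIndex_ker, MonoidHom.ker_rangeRestrict, ker_act, ← h.ker_inf c,
      ← Subgroup.inf_relIndex_right ((S : Subgroup G) ⊓ centMod N M), inf_right_comm, inf_eq_right.2 hA,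
      inf_comm A, Subgroup.inf_relIndex_right]
  set C := M ⊓ Subgroup.centralizer (A : Set G)
  have hfix : Nat.card (C.map π) ≤ Nat.card ↥(OffGain.fixV φ ((A.map f : Subgroup ↥X) : Set ↥X)) := by
    refine Nat.card_le_card_of_injective
      (fun v => ⟨⟨v.1, Subgroup.map_mono (inf_le_left : C ≤ M) v.2⟩, ?_⟩) fun v w hvw =>
        Subtype.ext (congrArg (fun z => ((z.1 : Vb) : G ⧸ N)) hvw)
    rintro _ ⟨a, ha, rfl⟩
    refine Subtype.ext ?_
    obtain ⟨m, hm, he⟩ := v.2
    show π a * (v : G ⧸ N) * (π a)⁻¹ = v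
    rw [← he, ← map_mul, ← map_inv, ← map_mul, Subgroup.mem_centralizer_iff.1 hm.2 a ha,
      mul_inv_cancel_right]
  have hmul : (C.map π).relIndex Vb * Nat.card (C.map π) = Nat.card Vb := by
    have h1 := relIndex_mul_card (H := C.map π) (K := Vb)
    rwa [inf_eq_right.2 (Subgroup.map_mono (inf_le_left : C ≤ M))] at h1
  have hrel : (C.map π).relIndex Vb = (N ⊔ C).relIndex M := by
    rw [Subgroup.relIndex_map_map, QuotientGroup.ker_mk', sup_comm C, sup_eq_left.2 h.le]
  rw [← hrel, hcA]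
  refine Nat.le_of_mul_le_mul_right ?_ (Nat.card_pos (α := ↥(C.map π)))
  rw [hmul]
  exact le_trans (Nat.mul_le_mul_left _ hfix) hb

end RedSec

omit [N.Normal] [M.Normal] in
/-- Every section inside an elementary abelian normal subgroup which is moved by the elements of odd
order gives the bound. -/
theorem sect_lower {S : Sylow 2 G} (c : Ctx S) (N M : Subgroup G) [N.Normal] [M.Normal]
    (hNM : N ≤ M) (hMQ : M ≤ Cfsg.pCore 2 G) (hMe : Cfsg.IsElementaryAbelian 2 M)
    (hmov : ¬ ⁅M, Cfsg.pResidual 2 G⁆ ≤ N) {A : Subgroup G} (hA : A ≤ (S : Subgroup G))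
    (hAe : Cfsg.IsElementaryAbelian 2 A) :
    (Cfsg.pCore 2 G).relIndex A ^ 2 ≤ (N ⊔ (M ⊓ Subgroup.centralizer (A : Set G))).relIndex M := by
  set Q := Cfsg.pCore 2 G
  set O := Cfsg.pResidual 2 G
  haveI : O.Normal := inferInstance
  haveI : Q.Normal := inferInstance
  set N0 := M ⊓ centMod N O with hN0
  set M' := M ⊓ centMod N0 Q with hM'
  have hM2 : IsPGroup 2 M := (Fusion.isPGroup_pCore 2 G).to_le hMQ
  have hN0O : ⁅N0, O⁆ ≤ N := le_centMod.1 inf_le_right
  have hNN0 : N ≤ N0 := le_inf hNM (le_centMod_self N O)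
  have hN0M : N0 < M := lt_of_le_of_ne inf_le_left fun e => hmov (e ▸ hN0O)
  have hN0M' : N0 ≤ M' := le_inf inf_le_left (le_centMod_self N0 Q)
  obtain ⟨x, hxM, hxN, hxc⟩ := exists_fixed_mod S.isPGroup' hN0M (hMQ.trans (Fusion.pCore_le_sylow S))
  have hxM' : x ∈ M' := ⟨hxM, mem_centMod.2 fun q hq => mem_centMod.1 hxc q (Fusion.pCore_le_sylow S hq)⟩
  haveI := hMe.1
  have hsec : RedSec N0 M' :=
    { le := hN0M'
      core := inf_le_left.trans hMQ
      sq := fun m hm => by
        rw [← pow_two, hMe.2 m hm.1]; exact one_mem _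
      comm := Subgroup.commutator_le.2 fun a ha b hb => by
        rw [commutatorElement_eq_one_iff_mul_comm.2
          (congrArg Subtype.val ((inferInstance : IsMulCommutative M).is_comm.comm ⟨a, ha.1⟩ ⟨b, hb.1⟩))]
        exact one_mem _
      cent := le_centMod.1 inf_le_right
      moved := fun hle => by
        have h1 : ⁅⁅M', O⁆, O⁆ ≤ N := (Subgroup.commutator_mono hle le_rfl).trans hN0O
        exact hxN ⟨hxM, le_centMod.2 (stab (hM2.to_le inf_le_left) h1) hxM'⟩ }
  set C := Subgroup.centralizer (A : Set G)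
  refine (hsec.bound c hA hAe).trans ((relIndex_le_left ?_).trans (le_of_eq_of_le
    (Subgroup.inf_relIndex_right (N ⊔ (M ⊓ C)) M') (relIndex_le_right inf_le_left)))
  intro z hz
  obtain ⟨n, hn, y, hy, rfl⟩ := Subgroup.mem_sup_of_normal_left.1 hz.1
  have hyM' : y ∈ M' := by
    have h1 := mul_mem (inv_mem (hN0M' (hNN0 hn))) hz.2
    rwa [inv_mul_cancel_left] at h1
  exact mul_mem (Subgroup.mem_sup_left (hNN0 hn)) (Subgroup.mem_sup_right ⟨hyM', hy.2⟩)

/-- The 2-core of a constrained group which is not a 2-group has a reduced section. -/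
theorem exists_redSec (hc : Subgroup.centralizer (Cfsg.pCore 2 G : Set G) ≤ Cfsg.pCore 2 G)
    (hne : ¬ Cfsg.pResidual 2 G ≤ Cfsg.pCore 2 G) :
    ∃ N M : Subgroup G, ∃ (_ : N.Normal) (_ : M.Normal), RedSec N M := by
  set Q := Cfsg.pCore 2 G
  set O := Cfsg.pResidual 2 G
  haveI : O.Normal := inferInstance
  haveI : Q.Normal := inferInstance
  obtain ⟨M, ⟨hMn, hMQ, hMO⟩, hmin⟩ := Set.exists_min_image
    {M : Subgroup G | M.Normal ∧ M ≤ Q ∧ ¬ ⁅M, O⁆ ≤ ⊥} (fun M : Subgroup G => Nat.card M)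
    (Set.toFinite _) ⟨Q, inferInstance, le_rfl, fun h => hne <| le_trans
      (Subgroup.commutator_eq_bot_iff_le_centralizer.1 (by
        rw [Subgroup.commutator_comm]; exact le_bot_iff.1 h)) hc⟩
  haveI := hMn
  have hmin' : ∀ L : Subgroup G, L.Normal → L < M → ⁅L, O⁆ ≤ ⊥ := fun L hL hlt => by
    by_contra h
    exact absurd (hmin L ⟨hL, hlt.le.trans hMQ, h⟩)
      (not_le.2 (lt_of_le_of_ne (Subgroup.card_le_of_le hlt.le) fun e =>
        hlt.ne (Subgroup.eq_of_le_of_card_ge hlt.le e.ge)))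
  set N := M ⊓ centMod (⊥ : Subgroup G) O
  have hlow : ∀ L : Subgroup G, L.Normal → L < M → L ≤ N := fun L hL hlt =>
    le_inf hlt.le (le_centMod.2 (hmin' L hL hlt))
  have hM2 : IsPGroup 2 M := (Fusion.isPGroup_pCore 2 G).to_le hMQ
  have hNO : ⁅N, O⁆ ≤ ⊥ := le_centMod.1 inf_le_right
  have hmov : ¬ ⁅M, O⁆ ≤ N := fun h => hMO (stab hM2 ((Subgroup.commutator_mono h le_rfl).trans hNO))
  have hMne : ⊥ < M := bot_lt_iff_ne_bot.2 fun e => hMO (e ▸ (Subgroup.commutator_le_left _ _))
  -- the 2-core acts trivially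
  have hcent : ⁅M, Q⁆ ≤ N := by
    refine hlow _ inferInstance (lt_of_le_of_ne (Subgroup.commutator_le_left M Q) fun e => ?_)
    obtain ⟨T⟩ : Nonempty (Sylow 2 G) := inferInstance
    obtain ⟨L, ⟨hLn, hLM⟩, hmax⟩ := Set.exists_max_image {L : Subgroup G | L.Normal ∧ L < M}
      (fun L : Subgroup G => Nat.card L) (Set.toFinite _) ⟨⊥, inferInstance, hMne⟩
    haveI := hLn
    obtain ⟨x, hx, hxL, hxc⟩ := exists_fixed_mod T.isPGroup' hLM (hMQ.trans (Fusion.pCore_le_sylow T))
    have hxQ : x ∈ centMod L Q :=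
      mem_centMod.2 fun q hq => mem_centMod.1 hxc q (Fusion.pCore_le_sylow T hq)
    rcases (le_inf hLM.le (le_centMod_self L Q) : L ≤ M ⊓ centMod L Q).lt_or_eq with h | h
    · rcases (inf_le_left : M ⊓ centMod L Q ≤ M).lt_or_eq with h' | h'
      · exact absurd (hmax _ ⟨inferInstance, h'⟩) (not_le.2 (lt_of_le_of_ne
          (Subgroup.card_le_of_le h.le) fun e' => h.ne (Subgroup.eq_of_le_of_card_ge h.le e'.ge)))
      · refine hLM.ne (le_antisymm hLM.le (e.ge.trans (le_centMod.1 ?_)))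
        exact h' ▸ inf_le_right
    · exact hxL (h ▸ (⟨hx, hxQ⟩ : x ∈ M ⊓ centMod L Q))
  have hcomm : ⁅M, M⁆ ≤ N := (Subgroup.commutator_mono le_rfl hMQ).trans hcent
  refine ⟨N, M, inferInstance, hMn, inf_le_left, hMQ, ?_, hcomm, hcent, hmov⟩
  -- squares
  let Sq : Subgroup G := N ⊔ Subgroup.closure ((fun m : G => m * m) '' (M : Set G))
  haveI : (Subgroup.closure ((fun m : G => m * m) '' (M : Set G))).Normal := by
    refine ⟨fun z hz g => ?_⟩
    have h1 : (Subgroup.closure ((fun m : G => m * m) '' (M : Set G))).map (MulAut.conj g).toMonoidHom ≤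
        Subgroup.closure ((fun m : G => m * m) '' (M : Set G)) := by
      rw [MonoidHom.map_closure, Subgroup.closure_le]
      rintro _ ⟨_, ⟨m, hm, rfl⟩, rfl⟩
      exact Subgroup.subset_closure ⟨g * m * g⁻¹, hMn.conj_mem m hm g, by simp [mul_assoc]⟩
    exact h1 ⟨z, hz, rfl⟩
  have hSqM : Sq ≤ M := sup_le inf_le_left ((Subgroup.closure_le _).2 (by
    rintro _ ⟨m, hm, rfl⟩; exact mul_mem hm hm))
  rcases hSqM.lt_or_eq with hlt | he
  · intro m hm
    exact hlow Sq inferInstance hlt (Subgroup.mem_sup_right (Subgroup.subset_closure ⟨m, hm, rfl⟩))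
  · exfalso
    -- in the abelian quotient all elements would be squares
    set π := QuotientGroup.mk' N
    haveI : Nontrivial ↥(M.map π) := by
      refine (Subgroup.nontrivial_iff_ne_bot _).2 fun h => hmov ?_
      rw [Subgroup.map_eq_bot_iff, QuotientGroup.ker_mk'] at h
      exact (Subgroup.commutator_mono h le_rfl).trans (hNO.trans bot_le)
    have hcm : ∀ a ∈ M.map π, ∀ b ∈ M.map π, a * b = b * a := by
      rintro _ ⟨a, ha, rfl⟩ _ ⟨b, hb, rfl⟩
      refine commutatorElement_eq_one_iff_mul_comm.1 ?_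
      rw [← map_commutatorElement]
      exact (QuotientGroup.eq_one_iff _).2 (hcomm (Subgroup.commutator_mem_commutator ha hb))
    letI : CommGroup ↥(M.map π) :=
      { (inferInstance : Group ↥(M.map π)) with
        mul_comm := fun a b => Subtype.ext (hcm a a.2 b b.2) }
    let sqm : ↥(M.map π) →* ↥(M.map π) := powMonoidHom 2
    have hsurj : Function.Surjective sqm := by
      rintro ⟨_, m, hm, rfl⟩
      have hle : Sq.map π ≤ sqm.range.map (M.map π).subtype := by
        rw [Subgroup.map_sup, (Subgroup.map_eq_bot_iff _).2 (QuotientGroup.ker_mk' N).ge, bot_sup_eq,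
          MonoidHom.map_closure, Subgroup.closure_le]
        rintro _ ⟨_, ⟨z, hz, rfl⟩, rfl⟩
        refine ⟨sqm ⟨π z, z, hz, rfl⟩, ⟨_, rfl⟩, ?_⟩
        show (π z) ^ 2 = π (z * z)
        rw [pow_two, map_mul]
      obtain ⟨w, ⟨y, rfl⟩, hw⟩ := hle ⟨m, he ▸ hm, rfl⟩
      exact ⟨y, Subtype.ext hw⟩
    have hinj := Finite.injective_iff_surjective.2 hsurj
    obtain ⟨v, hv⟩ := exists_ne (1 : ↥(M.map π))
    obtain ⟨k, hk⟩ := hM2.map π v
    refine hv ?_
    clear hv
    induction k generalizing v with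
    | zero => simpa using hk
    | succ k ih =>
      have h2 : sqm v = 1 := ih (sqm v) (by
        show (v ^ 2) ^ 2 ^ k = 1
        rw [← pow_mul, ← pow_succ']
        exact hk)
      exact hinj (h2.trans (map_one sqm).symm)

end Cfsg.Agent.Solv.TwoFac
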